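import Cfsg.Agent.H534.MX.Two
import Cfsg.Agent.H605.MX.Cases
import Cfsg.Agent.H520.MX.Frame

/-!
# S3509, mixed covers, M3 for `q = 2`, `θ b = b`, in the toral form (helper534)

* `qtwo` : the facts `QTwo` for `D.group k`, simply laced, characteristic 2, `α` a frame automorphism with `r ^ e = 2`;
* `two_out` : the output of `two_fix` for `f : TorForm m s`.
-/

set_option autoImplicit false
set_option linter.unusedSectionVars false
set_option linter.unusedVariables false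

namespace Cfsg.Agent.H534.MX

open CoxeterSystem Cfsg Cfsg.Lie Cfsg.Lie.ChevalleyDatum
open Cfsg.Agent.ChevalleyStructure Cfsg.Agent.ChevalleyStructure.Elts Cfsg.Agent.ChevalleyStructure.CoxeterGeom
  Cfsg.Agent.ChevalleyStructure.CoxeterGeomTypes Cfsg.Agent.ChevalleyStructure.NPerm
open Cfsg.Agent.Tits.Roots Cfsg.Agent.Tits.Core Cfsg.Agent.Nodes Cfsg.Agent.Nodes.Reps Cfsg.Agent.Nodes.BNOf
  Cfsg.Agent.Nodes.RGDChev Cfsg.Agent.Nodes.Bruhat Cfsg.Agent.Nodes.NormalForm Cfsg.Agent.Nodes.Coroot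
  Cfsg.Agent.Nodes.SimplyLaced
open Cfsg.Agent.KFacts.RgdField Cfsg.Agent.KFacts.RgdChevCoord Cfsg.Agent.KFacts.RgdSL
open Cfsg.Agent.BpExc Cfsg.Agent.BpExc.TorCent Cfsg.Agent.BpExc.TorChev Cfsg.Agent.BpExc.Tow
  Cfsg.Agent.BpExc.TowChev Cfsg.Agent.BpExc.Pair Cfsg.Agent.BpExc.Fr Cfsg.Agent.BpExc.LangFr Cfsg.Agent.GpExc.Field
  Cfsg.Agent.BpExc.NInst Cfsg.Agent.BpExc.NChev
open Cfsg.Agent.H469.Exc Cfsg.Agent.H469.Exc.SigFr Cfsg.Agent.H316.U6 Cfsg.Agent.H129.TorusChar Cfsg.Agent.H169.RG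
  Cfsg.Agent.H28.RG Cfsg.Agent.H441.RG Cfsg.Agent.H605.MX Cfsg.Agent.H520.MX
open Cfsg.Agent.ChevalleyStructure.SL2Hom (up lo)
open Cfsg.Agent.H81.TorOrth
open Cfsg.Agent.LangThm (mem_XX_vec)
open Cfsg.Agent.Nodes.SubComb (rfl')
open scoped commutatorElement

universe u

/-! ### the tower -/

section TowA

variable {I W Y : Type*} [Fintype I] [DecidableEq I] [Group W] [Finite W] [Group Y] {M : CoxeterMatrix I}
  {cs : CoxeterSystem M W} {A : I → I → ℤ} {h : IsCartan M A} {p : ℕ}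
  {J : Type*} [Preorder J] {T : J → Subgroup Y} {n : I → Y} {X : J → (I → ℤ) → Subgroup Y}
  {F : Type*} [Field F] {xx : (I → ℤ) → F → Y} {χ : (I → ℤ) → Y → F}
  (H : Tow cs h p T n X) (C : Coords cs h (TL T) n (XL X) xx χ)

theorem sl_of (h4 : ∀ i j, M i j ≠ 4) (h6 : ∀ i j, M i j ≠ 6) : SL cs h := fun x y hx hy =>
  cpr_symm cs h h4 h6 hx hy

include H C

theorem two_comm0 (h4 : ∀ i j, M i j ≠ 4) (h6 : ∀ i j, M i j ≠ 6) {a b : I → ℤ} (ha : IsRoot cs h a)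
    (hb : IsRoot cs h b) (h0 : 0 ≤ cpr cs h a b) {u v : Y} (hu : u ∈ XL X a) (hv : v ∈ XL X b) : u * v = v * u := by
  by_cases hab : a = b
  · subst hab
    obtain ⟨s, rfl⟩ := ((C.coord a ha).mem _).1 hu
    obtain ⟨s', rfl⟩ := ((C.coord a ha).mem _).1 hv
    rw [← (C.coord a ha).add, ← (C.coord a ha).add, add_comm]
  have hab' : a ≠ -b := by
    rintro rfl
    rw [cpr_neg cs h b hb, cpr_self cs h hb] at h0
    omega
  obtain ⟨j, hj⟩ := H.mem_XL.1 hu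
  obtain ⟨j', hj'⟩ := H.mem_XL.1 hv
  obtain ⟨i, hi, hi'⟩ := H.dir j j'
  exact comm_of_not_btwn (H.rgd i) ha hb hab hab' ((sl_of (cs := cs) (h := h) h4 h6).not_btwn ha hb hab h0)
    (H.monoX a hi hj) (H.monoX b hi' hj')

theorem two_comm1 (h4 : ∀ i j, M i j ≠ 4) (h6 : ∀ i j, M i j ≠ 6) {a b : I → ℤ} (ha : IsRoot cs h a)
    (hb : IsRoot cs h b) (h0 : cpr cs h a b = -1) {u v : Y} (hu : u ∈ XL X a) (hv : v ∈ XL X b) (hu1 : u ≠ 1)
    (hv1 : v ≠ 1) : ∃ z ∈ XL X (a + b), z ≠ 1 ∧ u * v = z * (v * u) := by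
  obtain ⟨j, hj⟩ := H.mem_XL.1 hu
  obtain ⟨j', hj'⟩ := H.mem_XL.1 hv
  obtain ⟨i, hi, hi'⟩ := H.dir j j'
  have hA := (sl_of (cs := cs) (h := h) h4 h6).a2 ha hb h0
  have hui := H.monoX a hi hj
  have hvi := H.monoX b hi' hj'
  refine ⟨⁅u, v⁆, H.mem_XL.2 ⟨i, hA.comm_mem (H.rgd i) hui hvi⟩, ?_, ?_⟩
  · obtain ⟨s, hs, m, -, hm, he⟩ := hA.exists_mu' (H.rgd i) hui hu1
    rw [he v hvi, Ne, conj_eq_one_iff]
    exact hv1
  · rw [commutatorElement_def]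
    group

theorem two_inj {a b : I → ℤ} (ha : IsRoot cs h a) (hb : IsRoot cs h b) {v : Y} (hv1 : v ≠ 1) (h1 : v ∈ XL X a)
    (h2 : v ∈ XL X b) : a = b := by
  by_contra hab
  obtain ⟨j, hj⟩ := H.mem_XL.1 h1
  obtain ⟨j', hj'⟩ := H.mem_XL.1 h2
  obtain ⟨i, hi, hi'⟩ := H.dir j j'
  have h3 := Cfsg.Agent.Nodes.OppDec.X_inf_X (H.rgd i) ha hb hab
  apply hv1
  rw [← Subgroup.mem_bot, ← h3]
  exact ⟨H.monoX a hi hj, H.monoX b hi' hj'⟩

theorem two_sq (h2 : (2 : F) = 0) {b : I → ℤ} (hb : IsRoot cs h b) {v : Y} (hv : v ∈ XL X b) : v * v = 1 := by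
  obtain ⟨s, rfl⟩ := ((C.coord b hb).mem _).1 hv
  have h3 : s + s = 0 := by linear_combination s * h2
  rw [← (C.coord b hb).add, h3, (C.coord b hb).zero]

end TowA

/-! ### `D.group k` -/

section Grp

variable {D : ChevalleyDatum} {l : ℕ} {M : CoxeterMatrix (Fin l)} (hp : IsType D l M) {k : Type u} [Field k]
  {W : Type*} [Group W] (cs : CoxeterSystem M W)

theorem coe_up (t : k) : ((up t : Matrix.SpecialLinearGroup (Fin 2) k) : Matrix (Fin 2) (Fin 2) k) = !![1, t; 0, 1] := rfl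

theorem coe_lo (t : k) : ((lo t : Matrix.SpecialLinearGroup (Fin 2) k) : Matrix (Fin 2) (Fin 2) k) = !![1, 0; t, 1] := rfl

/-- `(up t * lo t⁻¹) ^ 3 = 1` -/
theorem sl_cube (h2 : (2 : k) = 0) {t : k} (ht : t ≠ 0) : (up t * lo t⁻¹) ^ 3 = 1 := by
  apply Subtype.ext
  rw [pow_succ, pow_succ, pow_one, Matrix.SpecialLinearGroup.coe_mul, Matrix.SpecialLinearGroup.coe_mul,
    Matrix.SpecialLinearGroup.coe_mul, Matrix.SpecialLinearGroup.coe_one, coe_up, coe_lo]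
  ext i j
  fin_cases i <;> fin_cases j
  · simp [Matrix.mul_apply, Fin.sum_univ_two, mul_inv_cancel₀ ht]
    linear_combination 6 * h2 + 3 * mul_inv_cancel₀ ht
  · simp [Matrix.mul_apply, Fin.sum_univ_two, ht]
    linear_combination 4 * t * h2
  · simp [Matrix.mul_apply, Fin.sum_univ_two, ht]
    linear_combination 4 * t⁻¹ * h2
  · simp [Matrix.mul_apply, Fin.sum_univ_two, ht]
    linear_combination 2 * h2 + 3 * mul_inv_cancel₀ ht

include cs in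
/-- `x_s(t) x_{-s}(t⁻¹) x_s(t)` represents the reflection, characteristic 2 -/
theorem rp_refl [IsAlgClosed k] (hk : LocFin k) (r : ℕ) [Fact r.Prime] [CharP k r] (h2 : (2 : k) = 0) {s : ℕ}
    (hs : s < D.nroots) {t : k} (ht : t ≠ 0) :
    ∃ w, Rp cs (tow (k := k) hp cs hk r).nsys w (xs hp.inList s t * xs hp.inList (D.neg s) t⁻¹ * xs hp.inList s t) ∧
      ∀ x, rep cs hp.isCartan w x = x - cpr cs hp.isCartan x (vec D l s) • vec D l s := by
  have := finite_W hp cs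
  obtain ⟨w, i, hw⟩ := (isRoot_iff hp cs (vec D l s)).2 ⟨s, hs, rfl⟩
  have H := tow (k := k) hp cs hk r
  have hTL := TL_eq (k := k) hp hk
  have hXL := XL_eq (k := k) hp hk
  obtain ⟨g, -, hg⟩ := H.exists_rp w
  have F : Fr cs hp.isCartan (TT D k) (XX D l k) (MulAut.conj g) (repAut cs hp.isCartan w) := by
    have h1 := Fr.conj H hg
    rwa [hTL, hXL] at h1
  have hi := simple_lt hp.inList (lt_rank hp i)
  obtain ⟨s', hs', e', c', hc', h1, h2'⟩ := act_fr hp cs hk (r := r) (IsFrob.conj g) F hi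
  have e2 : s' = s := by
    refine vec_inj hp hs' hs (e'.trans ?_)
    rw [vec_simple hp i, repAut_apply, hw]
  subst e2
  simp only [pow_zero, pow_one, MulAut.conj_apply] at h1 h2'
  have hu : c'⁻¹ * t ≠ 0 := mul_ne_zero (inv_ne_zero hc') ht
  have e3 : xs hp.inList s' t * xs hp.inList (D.neg s') t⁻¹ * xs hp.inList s' t =
      g * (xs hp.inList (D.simple i) (c'⁻¹ * t) * xs hp.inList (D.neg (D.simple i)) (c'⁻¹ * t)⁻¹ *
        xs hp.inList (D.simple i) (c'⁻¹ * t)) * g⁻¹ := by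
    have a1 : xs hp.inList s' t = g * xs hp.inList (D.simple i) (c'⁻¹ * t) * g⁻¹ := by
      rw [h1, mul_inv_cancel_left₀ hc']
    have a2 : xs hp.inList (D.neg s') t⁻¹ = g * xs hp.inList (D.neg (D.simple i)) (c'⁻¹ * t)⁻¹ * g⁻¹ := by
      rw [h2', mul_inv, inv_inv, inv_mul_cancel_left₀ hc']
    rw [a1, a2]
    group
  have e4 : xs hp.inList (D.simple i) (c'⁻¹ * t) * xs hp.inList (D.neg (D.simple i)) (c'⁻¹ * t)⁻¹ *
        xs hp.inList (D.simple i) (c'⁻¹ * t) = KFacts.RgdChevCoord.hc hp i (c'⁻¹ * t) * nc hp k i := by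
    have e5 := nG_eq hp (D.simple i) (c'⁻¹ * t)
    rw [nG_def hp.inList (D.simple i) (c'⁻¹ * t), ← mul_assoc] at e5
    have e6 : -(c'⁻¹ * t)⁻¹ = (c'⁻¹ * t)⁻¹ := by linear_combination -(c'⁻¹ * t)⁻¹ * h2
    rw [e6] at e5
    exact Subtype.ext e5
  refine ⟨rfl' cs w i, ?_, fun x => ?_⟩
  · rw [e3, e4]
    have h5 : Rp cs H.nsys (cs.simple i) (KFacts.RgdChevCoord.hc hp i (c'⁻¹ * t) * nc hp k i) := by
      have h6 : KFacts.RgdChevCoord.hc hp i (c'⁻¹ * t) ∈ TL (Tj hp (k := k)) := by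
        rw [hTL]
        exact hc_mem hp i hu
      have := (rp_of_mem (cs := cs) (hN := H.nsys) h6).mul (rp_simple cs H.nsys i)
      rwa [one_mul] at this
    exact (hg.mul h5).mul hg.inv
  · rw [rep_rfl'_eq, ← hw]

include cs in
/-- **The facts for `q = 2`.** -/
theorem qtwo [IsAlgClosed k] (hk : LocFin k) {r e : ℕ} [Fact r.Prime] [CharP k r] (hr2 : r = 2) (hre : r ^ e = 2)
    {α : MulAut ↥(D.group k)} {θ : (Fin l → ℤ) ≃+ (Fin l → ℤ)} (hα : IsFrob r e α)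
    (F : Fr cs hp.isCartan (TT D k) (XX D l k) α θ) (h4 : ∀ i j, M i j ≠ 4) (h6 : ∀ i j, M i j ≠ 6) [Finite W] :
    QTwo cs hp.isCartan (tow (k := k) hp cs hk r).nsys (XL (Xj hp (k := k))) α θ := by
  have H := tow (k := k) hp cs hk r
  have C := coordsTL (hp := hp) (cs := cs) hk r
  have h2 : (2 : k) = 0 := by
    have := CharP.cast_eq_zero k r
    rw [hr2] at this
    exact_mod_cast this
  refine ⟨fun b hb v hv => two_sq H C h2 hb hv, fun a b ha hb v hv1 h1 h2 => two_inj H C ha hb hv1 h1 h2,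
    fun a b ha hb h0 u hu v hv => two_comm0 H C h4 h6 ha hb h0 hu hv,
    fun a b ha hb h0 u hu v hv hu1 hv1 => two_comm1 H C h4 h6 ha hb h0 hu hv hu1 hv1, fun b hb hθ => ?_⟩
  obtain ⟨s, hs, rfl⟩ := (isRoot_iff hp cs b).1 hb
  obtain ⟨s', hs', e', c, hc, h1, h2'⟩ := act_fr hp cs hk hα F hs
  rw [hθ] at e'
  obtain rfl : s' = s := vec_inj hp hs' hs e'
  rw [hre] at h1 h2'
  have hns := neg_lt hp.inList hs
  have hne : ∀ {s : ℕ}, s < D.nroots → ∀ {t : k}, t ≠ 0 → xs hp.inList s t ≠ 1 := by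
    intro s hs t ht h
    rw [← xs_zero hp s] at h
    exact ht (xs_inj hp hs h)
  have hXL := XL_eq (k := k) hp hk
  refine ⟨xs hp.inList s' c⁻¹, by rw [hXL]; exact xs_mem hp hs _, xs hp.inList (D.neg s') c, ?_, hne hs (inv_ne_zero hc),
    hne hns hc, ?_, ?_, ?_, ?_⟩
  · rw [hXL, ← vec_neg hp hs]
    exact xs_mem hp hns _
  · rw [h1]
    congr 1
    field_simp
  · rw [h2']
    congr 1
    field_simp
  · have h3 := congrArg (ps hp hs) (sl_cube h2 (inv_ne_zero hc))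
    rw [map_pow, map_mul, ps_up, ps_lo, map_one, inv_inv] at h3
    exact h3
  · have h3 := rp_refl hp cs hk r h2 hs (inv_ne_zero hc)
    rw [inv_inv] at h3
    exact h3

end Grp

/-! ### the toral form -/

section Out

variable {D : ChevalleyDatum} {l : ℕ} {M : CoxeterMatrix (Fin l)} {hp : IsType D l M} {p q : ℕ} [hr : Fact p.Prime]
  {K₀ : Type} [Group K₀] {m : MData hp p q K₀} {s : ↥(D.group (KK p))}

/-- **M3 for `q = 2`, `θ b = b`, in the toral form.** -/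
theorem two_out (h4 : ∀ i j, M i j ≠ 4) (h6 : ∀ i j, M i j ≠ 6) (hq : q = 2) (f : TorForm m s)
    (hs : (orderOf s).Coprime p)
    {K : Subgroup ↥(D.group (KK p))} (hK : K ≤ CI m s) (hKn : ∀ c ∈ CI m s, ∀ x ∈ K, c * x * c⁻¹ ∈ K)
    {u : ↥(D.group (KK p))} (hu : u ∈ K) (hu1 : u ≠ 1) {j : ℕ} (huj : u ^ p ^ j = 1)
    {b : Fin l → ℤ} (hb : b ∈ SP M.toCoxeterSystem hp.isCartan (ch hp) f.t) (hfix : f.θ b = b)
    (hKb : ∀ y ∈ Subgroup.closure ({x | x ∈ RGD.Sup (XX D l (KK p)) (orb f.θ b) ∧ f.α x = x} ∪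
        {x | x ∈ RGD.Sup (XX D l (KK p)) (orbN f.θ b) ∧ f.α x = x}),
        ∀ n : ℕ, n.Coprime p → y ^ n = 1 → y ∈ cjz f K) :
    (∃ b ∈ Sx M.toCoxeterSystem hp.isCartan (ch hp) f.t, f.θ b = b ∧ ∃ v ∈ XX D l (KK p) b, v ≠ 1 ∧ f.α v = v ∧
      v ∈ cjz f K) ∨
    (∃ b ∈ Sx M.toCoxeterSystem hp.isCartan (ch hp) f.t, f.θ b = b ∧ ∃ v ∈ XX D l (KK p) b, v ≠ 1 ∧ f.α v = v ∧
      ∃ y ∈ cjz f K, y ≠ 1 ∧ (∃ r : ℕ, r.Prime ∧ r ≠ p ∧ y ^ r = 1) ∧ y * v = v * y) := by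
  have := finite_W hp M.toCoxeterSystem
  have hp2 : p = 2 := by
    have h1 : p ^ m.e = 2 := m.hq.trans hq
    exact (Nat.prime_dvd_prime_iff_eq hr.out Nat.prime_two).1 (by rw [← h1]; exact dvd_pow_self p m.he.ne')
  have hfin := finite_fixC_α f
  have d := dfr_torForm f hs
  have Dt : CDat M.toCoxeterSystem hp.isCartan (Tj hp (k := KK p)) (Xj hp (k := KK p)) (ch hp) f.α f.θ f.t :=
    d.cdat (locFin p)
  have H := tow (k := KK p) hp M.toCoxeterSystem (locFin p) p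
  obtain ⟨P, hP⟩ := d.sylP (locFin p)
  rw [← PP0_eq (locFin p)] at hP
  have hKC' : cjz f K ≤ cjz f (CI m s) := fun x hx => hK hx
  have hKn' : ∀ c ∈ cjz f (CI m s), ∀ x ∈ cjz f K, c * x * c⁻¹ ∈ cjz f K := by
    intro c hc x hx
    have h1 := hKn _ hc _ hx
    have e : f.z * (c * x * c⁻¹) * f.z⁻¹ = f.z * c * f.z⁻¹ * (f.z * x * f.z⁻¹) * (f.z * c * f.z⁻¹)⁻¹ := by group
    refine mem_cjz.2 ?_
    rw [e]
    exact h1
  have huK : f.z⁻¹ * u * f.z ∈ cjz f K := by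
    refine mem_cjz.2 ?_
    have e : f.z * (f.z⁻¹ * u * f.z) * f.z⁻¹ = u := by group
    rw [e]
    exact hu
  have hu1' : f.z⁻¹ * u * f.z ≠ 1 := by
    intro h1
    apply hu1
    have e : u = f.z * (f.z⁻¹ * u * f.z) * f.z⁻¹ := by group
    rw [e, h1]
    group
  have huj' : (f.z⁻¹ * u * f.z) ^ p ^ j = 1 := by
    have e : f.z⁻¹ * u * f.z = f.z⁻¹ * u * f.z⁻¹⁻¹ := by group
    rw [e, conj_pow, huj, mul_one, inv_inv, inv_mul_cancel]
  have Q : QTwo M.toCoxeterSystem hp.isCartan H.nsys (XL (Xj hp (k := KK p))) f.α f.θ :=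
    qtwo hp M.toCoxeterSystem (locFin p) hp2 (m.hq.trans hq) f.frob f.fr h4 h6
  have h7 := two_fix H (coordsTL (locFin p) p) (d.frTL (locFin p)) Dt h4 h6 Q hp2 (K := cjz f K) (C' := cjz f (CI m s))
    (cjz_CI_le f) (fun c hc x hx => cjz_CI_norm f hc hx) (fun x hx ⟨j, hj⟩ => mem_cjz_CI f hx hj)
    (fun L hL hLn hLp => core_of (cjz_CI_le f) (fun c hc x hx => cjz_CI_norm f hc hx) le_rfl
      (fun c hc x hx => mul_mem (mul_mem hc hx) (inv_mem hc)) (d.pCore_eq_bot (locFin p)) hL hLn hLp)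
    hKC' hKn'
    (inf_ne_of H (coordsTL (locFin p) p) (d.frTL (locFin p)) Dt P hP (cjz_CI_le f)
      (fun x hx ⟨j, hj⟩ => mem_cjz_CI f hx hj) hKC' hKn' huK hu1' ⟨j, huj'⟩)
    hb hfix (by rw [XL_eq hp (locFin p)]; exact hKb)
  rw [XL_eq hp (locFin p)] at h7
  have e : ∀ r : ℕ, r ≠ 2 → r ≠ p := fun r h1 h2 => h1 (h2.trans hp2)
  rcases h7 with h7 | ⟨b, hb, hb1, v, hv, hv1, hv2, y, hy, hy1, ⟨r, hr1, hr2, hr3⟩, hyv⟩
  · exact Or.inl h7
  · exact Or.inr ⟨b, hb, hb1, v, hv, hv1, hv2, y, hy, hy1, ⟨r, hr1, e r hr2, hr3⟩, hyv⟩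

end Out

end Cfsg.Agent.H534.MX
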