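import Cfsg.Agent.Nodes.SimplyLaced
import Cfsg.Agent.Nodes.Slope

/-!
# S3509, mixed covers, `q = 2`: root combinatorics (helper534)

Simply laced.  `RS θ S` : `S` a closed symmetric set of roots stable under `θ`, `θ` preserving the positive roots of `S`.
`β ∈ S` positive, `θ β = β`, no other `θ`-fixed roots in `S` up to sign.

* `cpr_theta` : `θ` preserves the pairing;
* `exists_pair` : `g ∈ S`, `⟨g, β⟩ = -1` : `g + θ^j g = -β`;
* `theta_eq` : `g ∈ S`, `⟨g, β⟩ = 1` : `θ g = β - g`; `eq_or` : there are at most two such `g`;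
* `orth` : `⟨b, β⟩ ≠ 0`, `⟨c, β⟩ = 0` : `⟨b, c⟩ = 0`; `nonneg` : `0 < ⟨b, β⟩` : `0 ≤ b`.
-/

set_option autoImplicit false
set_option linter.unusedSectionVars false

namespace Cfsg.Agent.H534.MX

open CoxeterSystem Cfsg.Agent.ChevalleyStructure.CoxeterGeom Cfsg.Agent.Tits.Roots Cfsg.Agent.Tits.Core
  Cfsg.Agent.Tits.RootComb Cfsg.Agent.Nodes.Comb Cfsg.Agent.Nodes.Reps Cfsg.Agent.Nodes.BNOf
  Cfsg.Agent.Nodes.SubComb Cfsg.Agent.Nodes.Coroot Cfsg.Agent.Nodes.SimplyLaced

variable {I W : Type*} [Fintype I] [DecidableEq I] [Group W] [Finite W] {M : CoxeterMatrix I}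
  {cs : CoxeterSystem M W} {A : I → I → ℤ} {h : IsCartan M A} (h4 : ∀ i j, M i j ≠ 4) (h6 : ∀ i j, M i j ≠ 6)

include h4 h6

theorem cpr_val {a b : I → ℤ} (ha : IsRoot cs h a) (hb : IsRoot cs h b) :
    a = b ∨ a = -b ∨ cpr cs h a b = 0 ∨ cpr cs h a b = 1 ∨ cpr cs h a b = -1 := by
  by_cases h1 : a = b
  · exact Or.inl h1
  by_cases h2 : a = -b
  · exact Or.inr (Or.inl h2)
  have h3 := abs_cpr_le_one cs h h4 h6 ha hb h1 h2
  rw [abs_le] at h3
  omega

theorem eq_of_two_le {a b : I → ℤ} (ha : IsRoot cs h a) (hb : IsRoot cs h b) (h1 : 2 ≤ cpr cs h a b) : a = b := by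
  rcases cpr_val h4 h6 ha hb with h2 | h2 | h2 | h2 | h2
  · exact h2
  · rw [h2, cpr_neg cs h b hb, cpr_self cs h hb] at h1
    omega
  all_goals omega

theorem eq_neg_of_le {a b : I → ℤ} (ha : IsRoot cs h a) (hb : IsRoot cs h b) (h1 : cpr cs h a b ≤ -2) : a = -b := by
  rcases cpr_val h4 h6 ha hb with h2 | h2 | h2 | h2 | h2
  · rw [h2, cpr_self cs h hb] at h1
    omega
  · exact h2
  all_goals omega

theorem add_root_iff {a b : I → ℤ} (ha : IsRoot cs h a) (hb : IsRoot cs h b) : IsRoot cs h (a + b) ↔ cpr cs h a b = -1 := by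
  constructor
  · intro hab
    have h1 := cpr_add cs h a b ha
    rw [cpr_self cs h ha, cpr_symm cs h h4 h6 hb ha] at h1
    rcases cpr_val h4 h6 ha hb with h2 | h2 | h2 | h2 | h2
    · rw [h2, cpr_self cs h hb] at h1
      have h3 := eq_of_two_le h4 h6 hab ha (by rw [h2]; omega)
      exact absurd (add_eq_left.1 h3) hb.ne_zero
    · exact absurd (by rw [h2, neg_add_cancel] : a + b = 0) hab.ne_zero
    · have h3 := eq_of_two_le h4 h6 hab ha (by omega)
      exact absurd (add_eq_left.1 h3) hb.ne_zero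
    · have h3 := eq_of_two_le h4 h6 hab ha (by omega)
      exact absurd (add_eq_left.1 h3) hb.ne_zero
    · exact h2
  · intro h1
    have h2 := isRoot_refl cs h ha hb
    rwa [h1, neg_one_smul, sub_neg_eq_add] at h2

theorem sub_root {a b : I → ℤ} (ha : IsRoot cs h a) (hb : IsRoot cs h b) (h1 : cpr cs h a b = 1) : IsRoot cs h (a - b) := by
  have h2 := isRoot_refl cs h ha hb
  rwa [h1, one_smul] at h2

/-- **`θ` preserves the pairing.** -/
theorem cpr_theta {θ : (I → ℤ) ≃+ (I → ℤ)} (hθ : ∀ a, IsRoot cs h (θ a) ↔ IsRoot cs h a) {a b : I → ℤ}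
    (ha : IsRoot cs h a) (hb : IsRoot cs h b) : cpr cs h (θ a) (θ b) = cpr cs h a b := by
  have ha' := (hθ a).2 ha
  have hb' := (hθ b).2 hb
  rcases cpr_val h4 h6 ha hb with h2 | h2 | h2 | h2 | h2
  · rw [h2, cpr_self cs h hb', cpr_self cs h hb]
  · rw [h2, map_neg, cpr_neg cs h _ hb', cpr_neg cs h _ hb, cpr_self cs h hb', cpr_self cs h hb]
  · -- orthogonal
    have key : ∀ c : I → ℤ, IsRoot cs h c → cpr cs h a c = 0 → cpr cs h (θ a) (θ c) ≠ -1 := by
      intro c hc h3 h5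
      have h6' := (add_root_iff h4 h6 ha' ((hθ c).2 hc)).2 h5
      rw [← map_add, hθ, add_root_iff h4 h6 ha hc] at h6'
      omega
    have h3 := key b hb h2
    have h5 := key (-b) hb.neg (by rw [cpr_neg_right cs h a hb, h2]; rfl)
    rw [map_neg, cpr_neg_right cs h _ hb'] at h5
    rcases cpr_val h4 h6 ha' hb' with h7 | h7 | h7 | h7 | h7
    · rw [θ.injective h7, cpr_self cs h hb] at h2
      omega
    · rw [← map_neg] at h7
      rw [θ.injective h7, cpr_neg cs h _ hb, cpr_self cs h hb] at h2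
      omega
    · rw [h7, h2]
    · omega
    · omega
  · rw [h2]
    have h3 : cpr cs h a (-b) = -1 := by rw [cpr_neg_right cs h a hb, h2]
    rw [← add_root_iff h4 h6 ha hb.neg, ← hθ, map_add, add_root_iff h4 h6 ha' ((hθ _).2 hb.neg), map_neg,
      cpr_neg_right cs h _ hb'] at h3
    omega
  · rw [h2]
    rwa [← add_root_iff h4 h6 ha hb, ← hθ, map_add, add_root_iff h4 h6 ha' hb'] at h2

omit h4 h6

/-- a closed symmetric `θ`-stable set of roots, `θ` preserving the positive ones -/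
structure RS (cs : CoxeterSystem M W) (h : IsCartan M A) (θ : (I → ℤ) ≃+ (I → ℤ)) (S : Set (I → ℤ)) : Prop where
  root : ∀ a ∈ S, IsRoot cs h a
  neg : ∀ a ∈ S, -a ∈ S
  add : ∀ a ∈ S, ∀ b ∈ S, IsRoot cs h (a + b) → a + b ∈ S
  th : ∀ a ∈ S, θ a ∈ S
  thr : ∀ a, IsRoot cs h (θ a) ↔ IsRoot cs h a
  pos : ∀ a ∈ S, 0 ≤ a → 0 ≤ θ a
  per : ∀ a ∈ S, ∃ m : ℕ, 0 < m ∧ θ^[m] a = a

variable {θ : (I → ℤ) ≃+ (I → ℤ)} {S : Set (I → ℤ)} (R : RS cs h θ S)

include R

theorem RS.iter {a : I → ℤ} (ha : a ∈ S) (j : ℕ) : θ^[j] a ∈ S := by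
  induction j with
  | zero => exact ha
  | succ j ih => rw [Function.iterate_succ_apply']; exact R.th _ ih

theorem RS.iter_pos {a : I → ℤ} (ha : a ∈ S) (h0 : 0 ≤ a) (j : ℕ) : 0 ≤ θ^[j] a := by
  induction j with
  | zero => exact h0
  | succ j ih => rw [Function.iterate_succ_apply']; exact R.pos _ (R.iter ha j) ih

omit R in
theorem iter_neg (a : I → ℤ) (j : ℕ) : θ^[j] (-a) = -θ^[j] a := by
  induction j with
  | zero => rfl
  | succ j ih => rw [Function.iterate_succ_apply', ih, map_neg, ← Function.iterate_succ_apply' (f := θ)]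

omit R in
theorem iter_sub (a b : I → ℤ) (j : ℕ) : θ^[j] (a - b) = θ^[j] a - θ^[j] b := by
  induction j with
  | zero => rfl
  | succ j ih =>
    rw [Function.iterate_succ_apply', ih, map_sub, ← Function.iterate_succ_apply' (f := θ),
      ← Function.iterate_succ_apply' (f := θ)]

omit R in
theorem iter_fix {b : I → ℤ} (hb : θ b = b) (j : ℕ) : θ^[j] b = b := Function.iterate_fixed hb j

theorem RS.ne_neg {a : I → ℤ} (ha : a ∈ S) (j : ℕ) : θ^[j] a ≠ -a := by
  intro e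
  rcases (R.root a ha).pos_or_neg with h0 | h0
  · have h1 := R.iter_pos ha h0 j
    rw [e] at h1
    exact (R.root a ha).not_pos_neg h0 (neg_nonneg.1 h1)
  · have h1 := R.iter_pos (R.neg a ha) (neg_nonneg.2 h0) j
    rw [iter_neg, e, neg_neg] at h1
    exact (R.root a ha).not_pos_neg h1 h0

/-- the sum over an orbit is not zero -/
theorem RS.orb_sum_ne {b : I → ℤ} (hb : b ∈ S) {m : ℕ} (hm : 0 < m) : ∑ i ∈ Finset.range m, θ^[i] b ≠ 0 := by
  have key : ∀ a : I → ℤ, a ∈ S → 0 ≤ a → ∑ i ∈ Finset.range m, θ^[i] a ≠ 0 := by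
    intro a ha h0 hs
    have h6 : 0 < ∑ i ∈ Finset.range m, ht (θ^[i] a) :=
      Finset.sum_pos (fun i _ => RGD.ht_pos (R.root _ (R.iter ha i)) (R.iter_pos ha h0 i)) ⟨0, Finset.mem_range.2 hm⟩
    have h7 : ∑ i ∈ Finset.range m, ht (θ^[i] a) = ht (∑ i ∈ Finset.range m, θ^[i] a) :=
      (map_sum Nodes.Slope.htHom _ _).symm
    rw [h7, hs] at h6
    exact absurd h6 (by unfold ht; simp)
  rcases (R.root b hb).pos_or_neg with h0 | h0
  · exact key b hb h0
  · intro hs
    refine key (-b) (R.neg b hb) (neg_nonneg.2 h0) ?_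
    simp only [iter_neg, Finset.sum_neg_distrib, hs, neg_zero]

/-- the difference of two roots of an orbit is not a root -/
theorem RS.sub_not {b : I → ℤ} (hb : b ∈ S) (j : ℕ) (hr : IsRoot cs h (b - θ^[j] b)) : False := by
  have h2 : b - θ^[j] b ∈ S := by
    rw [sub_eq_add_neg] at hr ⊢
    exact R.add _ hb _ (R.neg _ (R.iter hb j)) hr
  obtain ⟨m, hm, hmb⟩ := R.per b hb
  apply R.orb_sum_ne h2 hm
  have h5 : ∀ i : ℕ, θ^[i] (b - θ^[j] b) = θ^[i] b - θ^[i + j] b := fun i => by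
    rw [iter_sub, Function.iterate_add_apply]
  simp only [h5]
  rw [Finset.sum_sub_distrib, sub_eq_zero]
  have hper : ∀ j : ℕ, ∑ i ∈ Finset.range m, θ^[i + j] b = ∑ i ∈ Finset.range m, θ^[i] b := by
    intro j
    induction j with
    | zero => rfl
    | succ j ih =>
      rw [← ih]
      have h6 : ∀ i, θ^[i + (j + 1)] b = θ^[(i + 1) + j] b := fun i => by
        rw [show i + (j + 1) = (i + 1) + j by omega]
      simp only [h6]
      have h7 := Finset.sum_range_succ (fun i => θ^[i + j] b) m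
      have h8 := Finset.sum_range_succ' (fun i => θ^[i + j] b) m
      have h9 : θ^[m + j] b = θ^[0 + j] b := by
        rw [show m + j = j + m by omega, Function.iterate_add_apply, hmb, zero_add]
      rw [h7, h9] at h8
      exact (add_right_cancel h8).symm
  exact (hper j).symm

include h4 h6

/-- two different roots of an orbit: `⟨a, b⟩ ≤ 0` and `a ≠ -b` -/
theorem RS.orb_val {b : I → ℤ} (hb : b ∈ S) (j : ℕ) (hne : θ^[j] b ≠ b) :
    cpr cs h b (θ^[j] b) = 0 ∨ cpr cs h b (θ^[j] b) = -1 := by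
  rcases cpr_val h4 h6 (R.root _ hb) (R.root _ (R.iter hb j)) with h1 | h1 | h1 | h1 | h1
  · exact absurd h1.symm hne
  · exact absurd (neg_eq_iff_eq_neg.1 h1.symm) (R.ne_neg hb j)
  · exact Or.inl h1
  · exact (R.sub_not hb j (sub_root h4 h6 (R.root _ hb) (R.root _ (R.iter hb j)) h1)).elim
  · exact Or.inr h1

omit R h4 h6 in
/-- the situation: `β` is up to sign the only `θ`-fixed root of `S` -/
structure Bt (θ : (I → ℤ) ≃+ (I → ℤ)) (S : Set (I → ℤ)) (β : I → ℤ) : Prop where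
  mem : β ∈ S
  fix : θ β = β
  nn : 0 ≤ β
  only : ∀ g ∈ S, θ g = g → g = β ∨ g = -β

variable {β : I → ℤ} (B : Bt θ S β)

include B

theorem RS.cpr_iter {g : I → ℤ} (hg : g ∈ S) (j : ℕ) : cpr cs h (θ^[j] g) β = cpr cs h g β := by
  induction j with
  | zero => rfl
  | succ j ih =>
    rw [Function.iterate_succ_apply']
    have h1 := cpr_theta h4 h6 (θ := θ) R.thr (R.root _ (R.iter hg j)) (R.root _ B.mem)
    rw [B.fix] at h1
    rw [h1, ih]

/-- **(D1)** -/
theorem RS.exists_pair {g : I → ℤ} (hg : g ∈ S) (hgb : cpr cs h g β = -1) : ∃ j, g + θ^[j] g = -β := by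
  by_contra hcon
  push Not at hcon
  have hβr := R.root _ B.mem
  have hgr := R.root _ hg
  have hc : ∀ j, cpr cs h (θ^[j] g) β = -1 := fun j => by rw [R.cpr_iter h4 h6 B hg, hgb]
  have hr : ∀ j, IsRoot cs h (θ^[j] g) := fun j => R.root _ (R.iter hg j)
  -- the orbit is orthogonal
  have ho : ∀ i j : ℕ, i < j → θ^[j] g ≠ θ^[i] g → cpr cs h (θ^[i] g) (θ^[j] g) = 0 := by
    intro i j hij hne
    have e : θ^[j] g = θ^[j - i] (θ^[i] g) := by rw [← Function.iterate_add_apply, show j - i + i = j by omega]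
    have e' : θ^[j] g = θ^[i] (θ^[j - i] g) := by rw [← Function.iterate_add_apply, show i + (j - i) = j by omega]
    rw [e] at hne
    rcases R.orb_val h4 h6 (R.iter hg i) (j - i) hne with h1 | h1
    · rw [e]; exact h1
    · exfalso
      have h2 := (add_root_iff h4 h6 (hr i) (by rw [← e]; exact hr j)).2 h1
      have h3 : cpr cs h (θ^[i] g + θ^[j - i] (θ^[i] g)) β = -2 := by
        rw [cpr_add cs h _ _ hβr, ← e, hc, hc]
        rfl
      have h4' := eq_neg_of_le h4 h6 h2 hβr (by omega)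
      rw [← e, e'] at h4'
      apply hcon (j - i)
      apply (θ.injective.iterate i)
      have h5 : ∀ x y : I → ℤ, θ^[i] (x + y) = θ^[i] x + θ^[i] y := by
        intro x y
        have := iter_sub (θ := θ) x (-y) i
        rw [sub_neg_eq_add, iter_neg, sub_neg_eq_add] at this
        exact this
      rw [h5, h4', iter_neg, iter_fix B.fix]
  have hne : ∀ x, x = β ∨ x = -β → cpr cs h x β = 2 ∨ cpr cs h x β = -2 := by
    rintro x (rfl | rfl)
    · left; exact cpr_self cs h hβr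
    · right; rw [cpr_neg cs h _ hβr, cpr_self cs h hβr]
  have hinj : ∀ i j : ℕ, θ^[j + 1] g = θ^[i + 1] g → θ^[j] g = θ^[i] g := by
    intro i j e
    rw [Function.iterate_succ_apply', Function.iterate_succ_apply'] at e
    exact θ.injective e
  -- period one
  by_cases p1 : θ g = g
  · rcases hne g (B.only g hg p1) with h1 | h1 <;> omega
  have q01 : θ^[1] g ≠ θ^[0] g := p1
  have q12 : θ^[2] g ≠ θ^[1] g := fun e => q01 (hinj 0 1 e)
  have q23 : θ^[3] g ≠ θ^[2] g := fun e => q12 (hinj 1 2 e)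
  have h01 := ho 0 1 (by omega) q01
  have h12 := ho 1 2 (by omega) q12
  have h23 := ho 2 3 (by omega) q23
  -- `β + g` is a root
  have hbg : cpr cs h β g = -1 := by rw [cpr_symm cs h h4 h6 hβr hgr, hgb]
  have a0 : IsRoot cs h (β + g) := (add_root_iff h4 h6 hβr hgr).2 hbg
  have hb : ∀ j, cpr cs h β (θ^[j] g) = -1 := fun j => by rw [cpr_symm cs h h4 h6 hβr (hr j), hc]
  have a0S : β + g ∈ S := R.add _ B.mem _ hg a0
  have a1 : IsRoot cs h (β + g + θ^[1] g) := by
    refine (add_root_iff h4 h6 a0 (hr 1)).2 ?_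
    have h01' : cpr cs h g (θ^[1] g) = 0 := h01
    rw [cpr_add cs h _ _ (hr 1), hb, h01']
    rfl
  have a1S : β + g + θ^[1] g ∈ S := R.add _ a0S _ (R.iter hg 1) a1
  by_cases p2 : θ^[2] g = g
  · have e1 : θ (β + g + θ^[1] g) = β + g + θ^[1] g := by
      rw [map_add, map_add, B.fix]
      have e2 : θ (θ^[1] g) = g := p2
      rw [e2]
      show β + θ g + g = β + g + θ g
      abel
    have h1 : cpr cs h (β + g + θ^[1] g) β = 0 := by
      rw [cpr_add cs h _ _ hβr, cpr_add cs h _ _ hβr, cpr_self cs h hβr, hgb, hc]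
      rfl
    rcases hne _ (B.only _ a1S e1) with h2 | h2 <;> omega
  have q02 : θ^[2] g ≠ θ^[0] g := p2
  have q13 : θ^[3] g ≠ θ^[1] g := fun e => q02 (hinj 0 2 e)
  have h02 := ho 0 2 (by omega) q02
  have h13 := ho 1 3 (by omega) q13
  have a2 : IsRoot cs h (β + g + θ^[1] g + θ^[2] g) := by
    refine (add_root_iff h4 h6 a1 (hr 2)).2 ?_
    rw [cpr_add cs h _ _ (hr 2), cpr_add cs h _ _ (hr 2), hb, h12]
    have h02' : cpr cs h g (θ^[2] g) = 0 := h02
    rw [h02']
    rfl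
  have a2S : β + g + θ^[1] g + θ^[2] g ∈ S := R.add _ a1S _ (R.iter hg 2) a2
  by_cases p3 : θ^[3] g = g
  · have e1 : θ (β + g + θ^[1] g + θ^[2] g) = β + g + θ^[1] g + θ^[2] g := by
      rw [map_add, map_add, map_add, B.fix]
      have e2 : θ (θ^[2] g) = g := by rw [← Function.iterate_succ_apply' (f := θ)]; exact p3
      rw [e2]
      show β + θ g + θ (θ g) + g = β + g + θ g + θ (θ g)
      abel
    have h1 : cpr cs h (β + g + θ^[1] g + θ^[2] g) β = -1 := by
      rw [cpr_add cs h _ _ hβr, cpr_add cs h _ _ hβr, cpr_add cs h _ _ hβr, cpr_self cs h hβr, hgb, hc, hc]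
      rfl
    rcases hne _ (B.only _ a2S e1) with h2 | h2 <;> omega
  have q03 : θ^[3] g ≠ θ^[0] g := p3
  have h03 := ho 0 3 (by omega) q03
  -- four orthogonal roots
  have hsum : (2 : ℤ) • β = ∑ i : Fin 4, (-1 : ℤ) • θ^[(i : ℕ)] g := by
    refine two_smul_eq_sum cs h h4 h6 hβr (g := fun i => θ^[(i : ℕ)] g) (fun i => hr i) ?_ (c := fun _ => -1)
      (fun i => hb i) (fun i => rfl)
    have hs : ∀ i j : ℕ, cpr cs h (θ^[i] g) (θ^[j] g) = cpr cs h (θ^[j] g) (θ^[i] g) := fun i j =>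
      cpr_symm cs h h4 h6 (hr i) (hr j)
    have h10 := (hs 1 0).trans h01
    have h20 := (hs 2 0).trans h02
    have h30 := (hs 3 0).trans h03
    have h21 := (hs 2 1).trans h12
    have h31 := (hs 3 1).trans h13
    have h32 := (hs 3 2).trans h23
    intro i j hij
    fin_cases i <;> fin_cases j <;> first | exact absurd rfl hij | assumption
  rw [Fin.sum_univ_four] at hsum
  have hsum0 : (2 : ℤ) • β + (g + θ^[1] g + θ^[2] g + θ^[3] g) = 0 := by
    rw [hsum]
    show (-1 : ℤ) • g + (-1 : ℤ) • θ^[1] g + (-1 : ℤ) • θ^[2] g + (-1 : ℤ) • θ^[3] g + (g + θ^[1] g + θ^[2] g + θ^[3] g) = 0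
    simp only [neg_one_smul]
    abel
  have hsum1 : (2 : ℤ) • β + (θ^[1] g + θ^[2] g + θ^[3] g + θ^[4] g) = 0 := by
    have h1 := congrArg θ hsum0
    rw [map_add, map_add, map_add, map_add, map_zsmul, B.fix, map_zero] at h1
    exact h1
  have p4 : θ^[4] g = g := by
    have h1 : θ^[4] g - g = ((2 : ℤ) • β + (θ^[1] g + θ^[2] g + θ^[3] g + θ^[4] g)) -
      ((2 : ℤ) • β + (g + θ^[1] g + θ^[2] g + θ^[3] g)) := by abel
    rw [hsum0, hsum1, sub_zero] at h1
    exact sub_eq_zero.1 h1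
  -- `δ = β + g + θ² g`, `θ δ = -δ`
  have d1 : IsRoot cs h (β + g + θ^[2] g) := by
    refine (add_root_iff h4 h6 a0 (hr 2)).2 ?_
    have h02' : cpr cs h g (θ^[2] g) = 0 := h02
    rw [cpr_add cs h _ _ (hr 2), hb, h02']
    rfl
  have d1S : β + g + θ^[2] g ∈ S := R.add _ a0S _ (R.iter hg 2) d1
  refine R.ne_neg d1S 1 ?_
  show θ (β + g + θ^[2] g) = -(β + g + θ^[2] g)
  rw [map_add, map_add, B.fix, eq_neg_iff_add_eq_zero, ← hsum0, ← Function.iterate_succ_apply' (f := θ)]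
  show β + θ g + θ^[3] g + (β + g + θ^[2] g) = (2 : ℤ) • β + (g + θ g + θ^[2] g + θ^[3] g)
  rw [two_zsmul]
  abel

/-- **(D2)** -/
theorem RS.theta_eq {g : I → ℤ} (hg : g ∈ S) (hgb : cpr cs h g β = 1) : θ g = β - g := by
  have hβr := R.root _ B.mem
  have hgr := R.root _ hg
  obtain ⟨j, hj⟩ := R.exists_pair h4 h6 B (R.neg _ hg) (by rw [cpr_neg cs h _ hβr, hgb])
  rw [iter_neg, ← neg_add, neg_inj] at hj
  -- `g + g' = β`
  set g' := θ^[j] g with hg'
  have hgr' : IsRoot cs h g' := R.root _ (R.iter hg j)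
  have hgg : cpr cs h g g' = -1 := (add_root_iff h4 h6 hgr hgr').1 (by rw [hj]; exact hβr)
  have hxr : IsRoot cs h (θ g) := (R.thr _).2 hgr
  have h1 : cpr cs h (θ g) β = 1 := by rw [← hgb]; exact R.cpr_iter h4 h6 B hg 1
  have h2 : cpr cs h (θ g) g + cpr cs h (θ g) g' = 1 := by
    rw [cpr_symm cs h h4 h6 hxr hgr, cpr_symm cs h h4 h6 hxr hgr', ← cpr_add cs h _ _ hxr, hj,
      cpr_symm cs h h4 h6 hβr hxr, h1]
  have hne : θ g ≠ g := by
    intro e
    have h3 : g' = g := by rw [hg']; exact iter_fix e j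
    rw [h3, cpr_self cs h hgr] at hgg
    omega
  have h3 := R.orb_val h4 h6 hg 1 hne
  have h3' : cpr cs h (θ g) g = 0 ∨ cpr cs h (θ g) g = -1 := by
    rw [cpr_symm cs h h4 h6 hxr hgr]; exact h3
  -- `⟨θ g, g'⟩ ≥ 1`
  by_cases h5 : θ g = g'
  · rw [h5, ← hj, add_sub_cancel_left]
  · exfalso
    -- both in an orbit
    have h6' : cpr cs h (θ g) g' ≠ 1 := by
      intro e
      rcases Nat.eq_zero_or_pos j with hj0 | hj0
      · rw [hg', hj0] at hgg
        have : cpr cs h g g = -1 := hgg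
        rw [cpr_self cs h hgr] at this
        omega
      · have e1 : g' = θ^[j - 1] (θ g) := by
          rw [hg', ← Function.iterate_succ_apply, show (j - 1).succ = j by omega]
        have h7 := R.orb_val h4 h6 (R.th _ hg) (j - 1) (by rw [← e1]; exact Ne.symm h5)
        rw [← e1] at h7
        omega
    have h7 : 2 ≤ cpr cs h (θ g) g' := by omega
    exact h5 (eq_of_two_le h4 h6 hxr hgr' h7)

/-- **(D3)** -/
theorem RS.eq_or {g γ : I → ℤ} (hγ : γ ∈ S) (hγb : cpr cs h γ β = 1) (hg : g ∈ S) (hgb : cpr cs h g β = 1) :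
    g = γ ∨ g = β - γ := by
  have hβr := R.root _ B.mem
  have hgr := R.root _ hg
  have hγr := R.root _ hγ
  have t1 := R.theta_eq h4 h6 B hg hgb
  have t2 := R.theta_eq h4 h6 B hγ hγb
  have hγ' : β - γ ∈ S := by rw [← t2]; exact R.th _ hγ
  have hγr' := R.root _ hγ'
  have h1 : cpr cs h g γ + cpr cs h g (β - γ) = 1 := by
    rw [cpr_symm cs h h4 h6 hgr hγr, cpr_symm cs h h4 h6 hgr hγr', ← cpr_add cs h _ _ hgr, add_sub_cancel,
      cpr_symm cs h h4 h6 hβr hgr, hgb]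
  rcases cpr_val h4 h6 hgr hγr with h2 | h2 | h2 | h2 | h2
  · exact Or.inl h2
  · right
    rw [h2, cpr_neg cs h _ hγr, cpr_self cs h hγr] at h1
    exact eq_of_two_le h4 h6 hgr hγr' (by rw [h2]; omega)
  · -- `⟨g, β - γ⟩ = 1`
    exfalso
    have h3 := sub_root h4 h6 hgr hγr' (by omega)
    have h4' : θ (g - (β - γ)) = -(g - (β - γ)) := by
      rw [map_sub, map_sub, t1, t2, B.fix]
      abel
    refine R.ne_neg (?_ : g - (β - γ) ∈ S) 1 h4'
    rw [sub_eq_add_neg] at h3 ⊢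
    exact R.add _ hg _ (R.neg _ hγ') h3
  · exfalso
    have h3 := sub_root h4 h6 hgr hγr h2
    have h4' : θ (g - γ) = -(g - γ) := by
      rw [map_sub, t1, t2]
      abel
    refine R.ne_neg (?_ : g - γ ∈ S) 1 h4'
    rw [sub_eq_add_neg] at h3 ⊢
    exact R.add _ hg _ (R.neg _ hγ) h3
  · right
    exact eq_of_two_le h4 h6 hgr hγr' (by omega)

/-- **(D4)**, `⟨b, β⟩ = 1` -/
theorem RS.orth_one {b c : I → ℤ} (hb : b ∈ S) (hbb : cpr cs h b β = 1) (hc : c ∈ S) (hcb : cpr cs h c β = 0) :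
    cpr cs h c b = 0 := by
  have hβr := R.root _ B.mem
  have hbr := R.root _ hb
  have t2 := R.theta_eq h4 h6 B hb hbb
  have key : ∀ c, c ∈ S → cpr cs h c β = 0 → cpr cs h c b ≠ 1 := by
    intro c hc hcb h1
    have hcr := R.root _ hc
    have h2 := sub_root h4 h6 hcr hbr h1
    have h3 : b - c ∈ S := by
      have h4' : -(c - b) ∈ S := by
        refine R.neg _ ?_
        rw [sub_eq_add_neg] at h2 ⊢
        exact R.add _ hc _ (R.neg _ hb) h2
      rwa [neg_sub] at h4'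
    have h5 : cpr cs h (b - c) β = 1 := by
      rw [sub_eq_add_neg, cpr_add cs h _ _ hβr, cpr_neg cs h _ hβr, hbb, hcb]
      rfl
    rcases R.eq_or h4 h6 B hb hbb h3 h5 with h7 | h7
    · exact hcr.ne_zero (sub_eq_self.1 h7)
    · have h8 : c = b - (β - b) := by rw [← h7]; abel
      refine R.ne_neg hc 1 ?_
      show θ c = -c
      rw [h8, map_sub, map_sub, t2, B.fix]
      abel
  rcases cpr_val h4 h6 (R.root _ hc) hbr with h2 | h2 | h2 | h2 | h2
  · rw [h2] at hcb
    omega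
  · rw [h2, cpr_neg cs h _ hβr] at hcb
    omega
  · exact h2
  · exact absurd h2 (key c hc hcb)
  · refine absurd ?_ (key (-c) (R.neg _ hc) (by rw [cpr_neg cs h _ hβr, hcb]; rfl))
    rw [cpr_neg cs h _ hbr, h2]
    rfl

/-- **(D4)** -/
theorem RS.orth {b c : I → ℤ} (hb : b ∈ S) (hbb : cpr cs h b β ≠ 0) (hc : c ∈ S) (hcb : cpr cs h c β = 0) :
    cpr cs h c b = 0 := by
  have hβr := R.root _ B.mem
  have hbr := R.root _ hb
  rcases cpr_val h4 h6 hbr hβr with h2 | h2 | h2 | h2 | h2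
  · rw [h2]; exact hcb
  · rw [h2, cpr_neg_right cs h _ hβr, hcb]
    rfl
  · exact absurd h2 hbb
  · exact R.orth_one h4 h6 B hb h2 hc hcb
  · have h3 := R.orth_one h4 h6 B (R.neg _ hb) (by rw [cpr_neg cs h _ hβr, h2]; rfl) hc hcb
    rw [cpr_neg_right cs h _ hbr] at h3
    omega

/-- **(D5)** -/
theorem RS.nonneg {b : I → ℤ} (hb : b ∈ S) (hbb : 0 < cpr cs h b β) : 0 ≤ b := by
  have hβr := R.root _ B.mem
  have hbr := R.root _ hb
  rcases cpr_val h4 h6 hbr hβr with h2 | h2 | h2 | h2 | h2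
  · rw [h2]; exact B.nn
  · rw [h2, cpr_neg cs h _ hβr, cpr_self cs h hβr] at hbb
    omega
  · omega
  · rcases hbr.pos_or_neg with h0 | h0
    · exact h0
    · exfalso
      have t2 := R.theta_eq h4 h6 B hb h2
      have h1 := R.pos _ (R.neg _ hb) (neg_nonneg.2 h0)
      rw [map_neg, t2, neg_nonneg] at h1
      have h3 : β ≤ 0 := by
        have := add_nonpos h1 h0
        rwa [sub_add_cancel] at this
      exact hβr.not_pos_neg B.nn h3
  · omega

end Cfsg.Agent.H534.MX
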