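import Cfsg.Agent.H534.MX.Kap
import Cfsg.Agent.H534.MX.Roots

/-!
# S3509, mixed covers, M3 for `q = 2`, `θ β = β` (helper534)

The frame of `H534/MX/Kap.lean`, `p = 2`, simply laced, `QTwo` : the facts on root groups needed (the fixed points of `α` in the
root group of a `θ`-fixed root have order two).

* `two_main` : `K` contains a long root element, or an element of odd prime order commuting with a long root element.
-/

set_option autoImplicit false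
set_option linter.unusedSectionVars false
set_option linter.unusedVariables false

namespace Cfsg.Agent.H534.MX

open CoxeterSystem Cfsg.Agent.ChevalleyStructure.CoxeterGeom Cfsg.Agent.Tits.Roots Cfsg.Agent.Tits.Core
  Cfsg.Agent.Tits.RootComb Cfsg.Agent.Tits.Exchange Cfsg.Agent.Nodes.Reps Cfsg.Agent.Nodes.BNOf
  Cfsg.Agent.Nodes.StabComb Cfsg.Agent.Nodes.Bruhat Cfsg.Agent.Nodes.OppDec Cfsg.Agent.Nodes.LeviDec
  Cfsg.Agent.Nodes.NormalForm Cfsg.Agent.Nodes.SubComb Cfsg.Agent.KFacts.RgdField Cfsg.Agent.Nodes.Coroot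
  Cfsg.Agent.Nodes.SimplyLaced
  Cfsg.Agent.BpExc.TorCent Cfsg.Agent.BpExc.Tow Cfsg.Agent.BpExc.Fr Cfsg.Agent.BpExc.Pair Cfsg.Agent.H28.RG
  Cfsg.Agent.H441.RG

/-! ### abstract lemmas -/

section Abs

/-- a finite group without elements of prime order `≠ p` is a `p`-group -/
theorem isPGroup_of_prime {K : Type*} [Group K] [Finite K] {p : ℕ}
    (h : ∀ y : K, ∀ t : ℕ, t.Prime → t ≠ p → y ^ t = 1 → y = 1) : IsPGroup p K := by
  have h1 : ∀ t : ℕ, t.Prime → t ∣ Nat.card K → t = p := by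
    intro t ht hd
    by_contra hne
    have : Fact t.Prime := ⟨ht⟩
    obtain ⟨y, hy⟩ := exists_prime_orderOf_dvd_card' t hd
    have h2 := h y t ht hne (by rw [← hy]; exact pow_orderOf_eq_one y)
    rw [h2, orderOf_one] at hy
    exact ht.one_lt.ne hy
  exact IsPGroup.of_card (n := (Nat.card K).primeFactorsList.length)
    (Nat.eq_prime_pow_of_unique_prime_dvd Nat.card_pos.ne' (fun {d} hd hdv => h1 d hd hdv))

variable {I Y : Type*} [Fintype I] [DecidableEq I] [Group Y]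

/-- groups generated by commuting root groups commute -/
theorem sup_comm {Z : (I → ℤ) → Subgroup Y} {S S' : Set (I → ℤ)}
    (hc : ∀ a ∈ S, ∀ b ∈ S', ∀ u ∈ Z a, ∀ v ∈ Z b, u * v = v * u) {x y : Y} (hx : x ∈ RGD.Sup Z S)
    (hy : y ∈ RGD.Sup Z S') : x * y = y * x := by
  have h1 : RGD.Sup Z S ≤ Subgroup.centralizer (RGD.Sup Z S' : Set Y) := by
    refine RGD.Sup_le fun a ha u hu => ?_
    rw [Subgroup.mem_centralizer_iff]
    intro y hy
    have h2 : RGD.Sup Z S' ≤ Subgroup.centralizer {u} := by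
      refine RGD.Sup_le fun b hb v hv => ?_
      rw [Subgroup.mem_centralizer_singleton_iff]
      exact (hc a ha b hb u hu v hv).symm
    exact Subgroup.mem_centralizer_singleton_iff.1 (h2 hy)
  exact (Subgroup.mem_centralizer_iff.1 (h1 hx) y hy).symm

end Abs

variable {I W Y : Type*} [Fintype I] [DecidableEq I] [Group W] [Finite W] [Group Y] {M : CoxeterMatrix I}
  {cs : CoxeterSystem M W} {A : I → I → ℤ} {h : IsCartan M A} {p : ℕ}
  {J : Type*} [Preorder J] {T : J → Subgroup Y} {n : I → Y} {X : J → (I → ℤ) → Subgroup Y}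
  {F : Type*} [Field F] {xx : (I → ℤ) → F → Y} {χ : (I → ℤ) → Y → F}
  (H : Tow cs h p T n X) (C : Coords cs h (TL T) n (XL X) xx χ)
  {α : MulAut Y} {θ : (I → ℤ) ≃+ (I → ℤ)} (Fα : Fr cs h (TL T) (XL X) α θ)
  {t : Y} (Dt : CDat cs h T X χ α θ t)

/-- the facts for `q = 2` -/
structure QTwo (cs : CoxeterSystem M W) (h : IsCartan M A) {T0 : Subgroup Y} (hN : NSys M T0 n)
    (Z : (I → ℤ) → Subgroup Y) (α : MulAut Y) (θ : (I → ℤ) ≃+ (I → ℤ)) : Prop where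
  sq : ∀ b, IsRoot cs h b → ∀ v ∈ Z b, v * v = 1
  inj : ∀ a b, IsRoot cs h a → IsRoot cs h b → ∀ v, v ≠ 1 → v ∈ Z a → v ∈ Z b → a = b
  comm0 : ∀ a b, IsRoot cs h a → IsRoot cs h b → 0 ≤ cpr cs h a b → ∀ u ∈ Z a, ∀ v ∈ Z b, u * v = v * u
  comm1 : ∀ a b, IsRoot cs h a → IsRoot cs h b → cpr cs h a b = -1 → ∀ u ∈ Z a, ∀ v ∈ Z b, u ≠ 1 → v ≠ 1 →
    ∃ z ∈ Z (a + b), z ≠ 1 ∧ u * v = z * (v * u)
  r1 : ∀ b, IsRoot cs h b → θ b = b → ∃ v ∈ Z b, ∃ v' ∈ Z (-b), v ≠ 1 ∧ v' ≠ 1 ∧ α v = v ∧ α v' = v' ∧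
    (v * v') ^ 3 = 1 ∧ ∃ w, Rp cs hN w (v * v' * v) ∧ ∀ x, rep cs h w x = x - cpr cs h x b • b

include H C Fα Dt in
theorem rs_Sx : RS cs h θ (Sx cs h χ t) where
  root a ha := ha.1
  neg a ha := chi_neg C Dt.ht Dt.hA ha
  add a ha b hb hab := add_mem_Sx C Dt ha hb hab
  th a ha := (Fα.mem_Sx C Dt.ht Dt.hα a).2 ha
  thr a := Fα.root a
  pos a ha h0 := Dt.hpos a ha h0
  per a ha := exists_period C Fα Dt (θ := θ) ha.1

/-- the roots `b` with `⟨b, β⟩ > 0` -/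
def Pp (cs : CoxeterSystem M W) (h : IsCartan M A) (S : Set (I → ℤ)) (β : I → ℤ) : Set (I → ℤ) :=
  {b | b ∈ S ∧ 0 < cpr cs h b β}

/-- the roots `b` with `⟨b, β⟩ < 0` -/
def Pn (cs : CoxeterSystem M W) (h : IsCartan M A) (S : Set (I → ℤ)) (β : I → ℤ) : Set (I → ℤ) :=
  {b | b ∈ S ∧ cpr cs h b β < 0}

/-- the positive roots `b` with `⟨b, β⟩ = 0` -/
def Rp0 (cs : CoxeterSystem M W) (h : IsCartan M A) (S : Set (I → ℤ)) (β : I → ℤ) : Set (I → ℤ) :=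
  {b | b ∈ S ∧ cpr cs h b β = 0 ∧ 0 ≤ b}

section Elt

variable {T0 : Subgroup Y} {hN : NSys M T0 n} {Z : (I → ℤ) → Subgroup Y} {S : Set (I → ℤ)} {β : I → ℤ}

/-- **The elements of `Sup Pp` fixed by `α`.** -/
theorem pp_elt (h4 : ∀ i j, M i j ≠ 4) (h6 : ∀ i j, M i j ≠ 6) (Q : QTwo cs h hN Z α θ) (R : RS cs h θ S) (B : Bt θ S β)
    (hne : ∀ b, IsRoot cs h b → ∃ v ∈ Z b, v ≠ 1) (hmap : ∀ b, IsRoot cs h b → ∀ v ∈ Z b, α v ∈ Z (θ b))
    {a : Y} (ha : a ∈ RGD.Sup Z (Pp cs h S β)) (hαa : α a = a) : a ∈ Z β ∨ (a * a ∈ Z β ∧ a * a ≠ 1) := by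
  have hβr := R.root _ B.mem
  by_cases hex : ∃ γ ∈ S, cpr cs h γ β = 1
  swap
  · left
    have h1 : RGD.Sup Z (Pp cs h S β) ≤ Z β := by
      refine RGD.Sup_le fun b hb => ?_
      rcases cpr_val h4 h6 (R.root _ hb.1) hβr with h2 | h2 | h2 | h2 | h2
      · rw [h2]
      · have := hb.2
        rw [h2, cpr_neg cs h _ hβr, cpr_self cs h hβr] at this
        omega
      · have := hb.2; omega
      · exact absurd ⟨b, hb.1, h2⟩ hex
      · have := hb.2; omega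
    exact h1 ha
  obtain ⟨γ, hγ, hγb⟩ := hex
  have hγr := R.root _ hγ
  have tγ := R.theta_eq h4 h6 B hγ hγb
  have hγ' : β - γ ∈ S := by rw [← tγ]; exact R.th _ hγ
  have hγr' := R.root _ hγ'
  have hgg : cpr cs h (β - γ) γ = -1 := (add_root_iff h4 h6 hγr' hγr).1 (by rw [sub_add_cancel]; exact hβr)
  have hbg : cpr cs h β γ = 1 := by rw [cpr_symm cs h h4 h6 hβr hγr, hγb]
  have hbg' : cpr cs h β (β - γ) = 1 := by
    rw [cpr_symm cs h h4 h6 hβr hγr', sub_eq_add_neg, cpr_add cs h _ _ hβr, cpr_neg cs h _ hβr, cpr_self cs h hβr, hγb]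
    rfl
  have tγ' : θ (β - γ) = γ := by
    rw [map_sub, tγ, B.fix, sub_sub_cancel]
  -- commutation
  have c31 : ∀ z ∈ Z β, ∀ x ∈ Z γ, z * x = x * z := Q.comm0 β γ hβr hγr (by omega)
  have c32 : ∀ z ∈ Z β, ∀ y ∈ Z (β - γ), z * y = y * z := Q.comm0 β (β - γ) hβr hγr' (by omega)
  have c11 : ∀ x ∈ Z γ, ∀ x' ∈ Z γ, x * x' = x' * x := Q.comm0 γ γ hγr hγr (by rw [cpr_self cs h hγr]; omega)
  have c33 : ∀ x ∈ Z β, ∀ x' ∈ Z β, x * x' = x' * x := Q.comm0 β β hβr hβr (by rw [cpr_self cs h hβr]; omega)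
  have hyx : ∀ x ∈ Z γ, ∀ y ∈ Z (β - γ), ∃ w ∈ Z β, y * x = x * y * w ∧ (w = 1 → x = 1 ∨ y = 1) := by
    intro x hx y hy
    by_cases hx1 : x = 1
    · exact ⟨1, one_mem _, by rw [hx1]; group, fun _ => Or.inl hx1⟩
    by_cases hy1 : y = 1
    · exact ⟨1, one_mem _, by rw [hy1]; group, fun _ => Or.inr hy1⟩
    obtain ⟨z, hz, hz1, e⟩ := Q.comm1 (β - γ) γ hγr' hγr hgg y hy x hx hy1 hx1
    rw [sub_add_cancel] at hz
    refine ⟨z, hz, ?_, fun h0 => absurd h0 hz1⟩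
    rw [e, ← mul_assoc, c31 z hz x hx, mul_assoc, c32 z hz y hy, mul_assoc]
  -- the form
  have hform : ∀ g ∈ RGD.Sup Z (Pp cs h S β), ∃ x ∈ Z γ, ∃ y ∈ Z (β - γ), ∃ z ∈ Z β, g = x * y * z := by
    let E : Subgroup Y :=
      { carrier := {g | ∃ x ∈ Z γ, ∃ y ∈ Z (β - γ), ∃ z ∈ Z β, g = x * y * z}
        one_mem' := ⟨1, one_mem _, 1, one_mem _, 1, one_mem _, by group⟩
        mul_mem' := by
          rintro _ _ ⟨x, hx, y, hy, z, hz, rfl⟩ ⟨x', hx', y', hy', z', hz', rfl⟩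
          obtain ⟨w, hw, e, -⟩ := hyx x' hx' y hy
          refine ⟨x * x', mul_mem hx hx', y * y', mul_mem hy hy', w * z * z', mul_mem (mul_mem hw hz) hz', ?_⟩
          have e1 : w * z * y' = y' * (w * z) := c32 _ (mul_mem hw hz) y' hy'
          calc x * y * z * (x' * y' * z') = x * y * (z * x') * y' * z' := by group
            _ = x * (y * x') * z * y' * z' := by rw [c31 z hz x' hx']; group
            _ = x * x' * y * (w * z * y') * z' := by rw [e]; group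
            _ = x * x' * (y * y') * (w * z * z') := by rw [e1]; group
        inv_mem' := by
          rintro _ ⟨x, hx, y, hy, z, hz, rfl⟩
          obtain ⟨w, hw, e, -⟩ := hyx x⁻¹ (inv_mem hx) y⁻¹ (inv_mem hy)
          refine ⟨x⁻¹, inv_mem hx, y⁻¹, inv_mem hy, w * z⁻¹, mul_mem hw (inv_mem hz), ?_⟩
          have e1 : z⁻¹ * x⁻¹ = x⁻¹ * z⁻¹ := c31 _ (inv_mem hz) _ (inv_mem hx)
          have e2 : z⁻¹ * y⁻¹ = y⁻¹ * z⁻¹ := c32 _ (inv_mem hz) _ (inv_mem hy)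
          calc (x * y * z)⁻¹ = (z⁻¹ * y⁻¹) * x⁻¹ := by group
            _ = y⁻¹ * (z⁻¹ * x⁻¹) := by rw [e2]; group
            _ = (y⁻¹ * x⁻¹) * z⁻¹ := by rw [e1]; group
            _ = x⁻¹ * y⁻¹ * (w * z⁻¹) := by rw [e]; group }
    have hE : RGD.Sup Z (Pp cs h S β) ≤ E := by
      refine RGD.Sup_le fun b hb u hu => ?_
      rcases cpr_val h4 h6 (R.root _ hb.1) hβr with h2 | h2 | h2 | h2 | h2
      · rw [h2] at hu
        exact ⟨1, one_mem _, 1, one_mem _, u, hu, by group⟩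
      · have := hb.2
        rw [h2, cpr_neg cs h _ hβr, cpr_self cs h hβr] at this
        omega
      · have := hb.2; omega
      · rcases R.eq_or h4 h6 B hγ hγb hb.1 h2 with h3 | h3
        · rw [h3] at hu
          exact ⟨u, hu, 1, one_mem _, 1, one_mem _, by group⟩
        · rw [h3] at hu
          exact ⟨1, one_mem _, u, hu, 1, one_mem _, by group⟩
      · have := hb.2; omega
    exact fun g hg => hE hg
  obtain ⟨x, hx, y, hy, z, hz, e⟩ := hform a ha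
  obtain ⟨w, hw, ew, hw1⟩ := hyx x hx y hy
  have hsq : a * a = w := by
    calc a * a = x * y * z * (x * y * z) := by rw [e]
      _ = x * y * (z * x) * y * z := by group
      _ = x * (y * x) * (z * y) * z := by rw [c31 z hz x hx]; group
      _ = x * (x * y * w) * (y * z) * z := by rw [ew, c32 z hz y hy]
      _ = (x * x) * y * (w * y) * (z * z) := by group
      _ = (x * x) * (y * y) * w * (z * z) := by rw [c32 w hw y hy]; group
      _ = w := by rw [Q.sq γ hγr x hx, Q.sq _ hγr' y hy, Q.sq β hβr z hz]; group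
  by_cases hw0 : w = 1
  swap
  · right
    rw [hsq]
    exact ⟨hw, hw0⟩
  left
  -- the images
  have hαx : α x ∈ Z (β - γ) := by have := hmap γ hγr x hx; rwa [tγ] at this
  have hαy : α y ∈ Z γ := by have := hmap _ hγr' y hy; rwa [tγ'] at this
  have hαz : α z ∈ Z β := by have := hmap β hβr z hz; rwa [B.fix] at this
  -- an element of `Z (β - γ)` commuting with `Z γ` is trivial
  have hcen : ∀ y ∈ Z (β - γ), (∀ x ∈ Z γ, y * x = x * y) → y = 1 := by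
    intro y hy hc
    by_contra hy1
    obtain ⟨x, hx, hx1⟩ := hne γ hγr
    obtain ⟨z, hz, hz1, e⟩ := Q.comm1 (β - γ) γ hγr' hγr hgg y hy x hx hy1 hx1
    rw [hc x hx, right_eq_mul] at e
    exact hz1 e
  rw [e, map_mul, map_mul] at hαa
  rcases hw1 hw0 with h1 | h1
  · -- `x = 1`
    rw [h1, map_one, one_mul, one_mul] at hαa
    have h2 : y = 1 := by
      refine hcen y hy fun x' hx' => ?_
      have e2 : y = α y * (α z * z⁻¹) := by rw [← mul_assoc, hαa, mul_inv_cancel_right]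
      rw [e2, mul_assoc, c31 _ (mul_mem hαz (inv_mem hz)) x' hx', ← mul_assoc, c11 _ hαy x' hx', mul_assoc]
    rw [e, h1, h2, one_mul, one_mul]
    exact hz
  · rw [h1, map_one, mul_one, mul_one] at hαa
    have h2 : α x = 1 := by
      refine hcen _ hαx fun x' hx' => ?_
      have e2 : α x = x * (z * (α z)⁻¹) := by rw [← mul_assoc, ← hαa, mul_inv_cancel_right]
      rw [e2, mul_assoc, c31 _ (mul_mem hz (inv_mem hαz)) x' hx', ← mul_assoc, c11 _ hx x' hx', mul_assoc]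
    rw [map_eq_one_iff α α.injective] at h2
    rw [e, h1, h2, one_mul, one_mul]
    exact hz

end Elt

section Main

variable {β : I → ℤ}

/-- the fixed elements of `Sup Pp` and `Sup Pn` -/
def MPsi (cs : CoxeterSystem M W) (h : IsCartan M A) (Z : (I → ℤ) → Subgroup Y) (α : MulAut Y) (S : Set (I → ℤ))
    (β : I → ℤ) : Set Y :=
  {x | (x ∈ RGD.Sup Z (Pp cs h S β) ∨ x ∈ RGD.Sup Z (Pn cs h S β)) ∧ α x = x}

variable (h4 : ∀ i j, M i j ≠ 4) (h6 : ∀ i j, M i j ≠ 6) (Q : QTwo cs h H.nsys (XL X) α θ)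
  (B : Bt θ (Sx cs h χ t) β)

include H C Fα Dt h4 h6 Q B

/-- the positive roots orthogonal to `β` and the others -/
theorem comm_psi {x y : Y} (hx : x ∈ RGD.Sup (XL X) (Pp cs h (Sx cs h χ t) β) ∨ x ∈ RGD.Sup (XL X) (Pn cs h (Sx cs h χ t) β))
    (hy : y ∈ RGD.Sup (XL X) (Rp0 cs h (Sx cs h χ t) β)) : x * y = y * x := by
  have R := rs_Sx H C Fα Dt
  rcases hx with hx | hx
  · refine sup_comm (fun a ha b hb => Q.comm0 a b ha.1.1 hb.1.1 ?_) hx hy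
    have h1 := R.orth h4 h6 B ha.1 ha.2.ne' hb.1 hb.2.1
    rw [cpr_symm cs h h4 h6 ha.1.1 hb.1.1, h1]
  · refine sup_comm (fun a ha b hb => Q.comm0 a b ha.1.1 hb.1.1 ?_) hx hy
    have h1 := R.orth h4 h6 B ha.1 ha.2.ne hb.1 hb.2.1
    rw [cpr_symm cs h h4 h6 ha.1.1 hb.1.1, h1]

/-- `Sup Pn ≤ Un` -/
theorem pn_le : RGD.Sup (XL X) (Pn cs h (Sx cs h χ t) β) ≤ Un cs h X χ t := by
  have R := rs_Sx H C Fα Dt
  refine RGD.Sup_mono (S := Pn cs h (Sx cs h χ t) β) (S' := SN cs h χ t) fun b hb => ⟨hb.1, ?_⟩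
  have h1 := R.nonneg h4 h6 B (R.neg b hb.1) (by
    rw [cpr_neg cs h _ B.mem.1]
    have := hb.2
    omega)
  exact neg_nonneg.1 h1

theorem pp_le : RGD.Sup (XL X) (Pp cs h (Sx cs h χ t) β) ≤ Up cs h X χ t := by
  have R := rs_Sx H C Fα Dt
  exact RGD.Sup_mono (S := Pp cs h (Sx cs h χ t) β) (S' := SP cs h χ t) fun b hb =>
    ⟨hb.1, R.nonneg h4 h6 B hb.1 hb.2⟩

theorem r0_le : RGD.Sup (XL X) (Rp0 cs h (Sx cs h χ t) β) ≤ Up cs h X χ t :=
  RGD.Sup_mono (S := Rp0 cs h (Sx cs h χ t) β) (S' := SP cs h χ t) fun b hb => ⟨hb.1, hb.2.2⟩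

/-- the intersection -/
theorem pp_inf {x : Y} (h1 : x ∈ RGD.Sup (XL X) (Pp cs h (Sx cs h χ t) β))
    (h2 : x ∈ RGD.Sup (XL X) (Rp0 cs h (Sx cs h χ t) β)) : x = 1 := by
  have R := rs_Sx H C Fα Dt
  have hβr := B.mem.1
  obtain ⟨v, hv, v', hv', hv1, hv1', hαv, hαv', h3, w0, hw0, hrep⟩ := Q.r1 β hβr B.fix
  have hvP : v ∈ RGD.Sup (XL X) (Pp cs h (Sx cs h χ t) β) :=
    RGD.le_Sup (S := Pp cs h (Sx cs h χ t) β) ⟨B.mem, by rw [cpr_self cs h hβr]; omega⟩ hv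
  have hvN : v' ∈ RGD.Sup (XL X) (Pn cs h (Sx cs h χ t) β) :=
    RGD.le_Sup (S := Pn cs h (Sx cs h χ t) β) ⟨R.neg _ B.mem, by
      rw [cpr_neg cs h _ hβr, cpr_self cs h hβr]; omega⟩ hv'
  have c1 := comm_psi H C Fα Dt h4 h6 Q B (Or.inl hvP) h2
  have c2 := comm_psi H C Fα Dt h4 h6 Q B (Or.inr hvN) h2
  have hvt : v * t = t * v := comm_Up C Dt.ht (pp_le H C Fα Dt h4 h6 Q B hvP)
  have hvt' : v' * t = t * v' := comm_Un C Dt.ht (pn_le H C Fα Dt h4 h6 Q B hvN)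
  have hnt : v * v' * v * t = t * (v * v' * v) := by
    calc v * v' * v * t = v * v' * (v * t) := by group
      _ = v * (v' * t) * v := by rw [hvt]; group
      _ = (v * t) * v' * v := by rw [hvt']; group
      _ = t * (v * v' * v) := by rw [hvt]; group
  have e : v * v' * v * x * (v * v' * v)⁻¹ = x := by
    rw [mul_inv_eq_iff_eq_mul]
    calc v * v' * v * x = v * v' * (v * x) := by group
      _ = v * (v' * x) * v := by rw [c1]; group
      _ = (v * x) * v' * v := by rw [c2]; group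
      _ = x * (v * v' * v) := by rw [c1]; group
  have h5 : v * v' * v * x * (v * v' * v)⁻¹ ∈ RGD.Sup (XL X) (Pn cs h (Sx cs h χ t) β) := by
    refine conj_SupL H hw0 (S := Pp cs h (Sx cs h χ t) β) (fun b hb => hb.1.1) (fun b hb => ?_) h1
    refine ⟨⟨hb.1.1.act w0, by rw [chi_act C Dt H.nsys hw0 hnt hb.1.1]; exact hb.1.2⟩, ?_⟩
    have h6' : cpr cs h (b - cpr cs h b β • β) β = cpr cs h b β - cpr cs h b β * 2 := by
      rw [sub_eq_add_neg, cpr_add cs h _ _ hβr, cpr_neg cs h _ hβr, cpr_smul cs h _ _ hβr, cpr_self cs h hβr]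
      ring
    rw [hrep, h6']
    have := hb.2
    omega
  rw [e] at h5
  exact eq_one_of_pos_neg H (Up_le (pp_le H C Fα Dt h4 h6 Q B h1)) (Un_le (pn_le H C Fα Dt h4 h6 Q B h5))

/-- **The decomposition of the elements of `P`.** -/
theorem pp_dec {x : Y} (hx : x ∈ PP0 cs h X χ α t) : ∃ a ∈ RGD.Sup (XL X) (Pp cs h (Sx cs h χ t) β),
    ∃ c ∈ RGD.Sup (XL X) (Rp0 cs h (Sx cs h χ t) β), α a = a ∧ α c = c ∧ x = a * c := by
  have R := rs_Sx H C Fα Dt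
  have hβr := B.mem.1
  have hcm : ∀ g ∈ RGD.Sup (XL X) (Rp0 cs h (Sx cs h χ t) β), ∀ x ∈ RGD.Sup (XL X) (Pp cs h (Sx cs h χ t) β),
      g * x * g⁻¹ ∈ RGD.Sup (XL X) (Pp cs h (Sx cs h χ t) β) := by
    intro g hg x hx
    rw [← comm_psi H C Fα Dt h4 h6 Q B (Or.inl hx) hg, mul_inv_cancel_right]
    exact hx
  have hle : Up cs h X χ t ≤ KPs _ _ hcm := by
    refine RGD.Sup_le fun b hb u hu => ?_
    rcases lt_trichotomy (cpr cs h b β) 0 with h1 | h1 | h1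
    · exfalso
      have h2 := R.nonneg h4 h6 B (R.neg b hb.1) (by rw [cpr_neg cs h _ hβr]; omega)
      exact hb.1.1.not_pos_neg hb.2 (neg_nonneg.1 h2)
    · exact ⟨1, one_mem _, u, RGD.le_Sup (S := Rp0 cs h (Sx cs h χ t) β) ⟨hb.1, h1, hb.2⟩ hu, (one_mul u).symm⟩
    · exact ⟨u, RGD.le_Sup (S := Pp cs h (Sx cs h χ t) β) ⟨hb.1, h1⟩ hu, 1, one_mem _, (mul_one u).symm⟩
  obtain ⟨a, ha, c, hc, e⟩ := hle hx.1
  have hαx : α x = x := hx.2
  have ha' : α a ∈ RGD.Sup (XL X) (Pp cs h (Sx cs h χ t) β) := by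
    have h1 : RGD.Sup (XL X) (Pp cs h (Sx cs h χ t) β) ≤
        (RGD.Sup (XL X) (Pp cs h (Sx cs h χ t) β)).comap α.toMonoidHom := by
      refine RGD.Sup_le fun b hb u hu => ?_
      refine RGD.le_Sup (S := Pp cs h (Sx cs h χ t) β) ⟨R.th b hb.1, ?_⟩ ((Fα.map b hb.1.1 u).2 hu)
      have h2 := R.cpr_iter h4 h6 B hb.1 1
      have h3 : cpr cs h (θ b) β = cpr cs h b β := h2
      rw [h3]
      exact hb.2
    exact h1 ha
  have hc' : α c ∈ RGD.Sup (XL X) (Rp0 cs h (Sx cs h χ t) β) := by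
    have h1 : RGD.Sup (XL X) (Rp0 cs h (Sx cs h χ t) β) ≤
        (RGD.Sup (XL X) (Rp0 cs h (Sx cs h χ t) β)).comap α.toMonoidHom := by
      refine RGD.Sup_le fun b hb u hu => ?_
      refine RGD.le_Sup (S := Rp0 cs h (Sx cs h χ t) β) ⟨R.th b hb.1, ?_, R.pos b hb.1 hb.2.2⟩ ((Fα.map b hb.1.1 u).2 hu)
      have h2 := R.cpr_iter h4 h6 B hb.1 1
      have h3 : cpr cs h (θ b) β = cpr cs h b β := h2
      rw [h3]
      exact hb.2.1
    exact h1 hc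
  have e1 : a⁻¹ * α a = c * (α c)⁻¹ := by
    rw [e, map_mul] at hαx
    rw [inv_mul_eq_iff_eq_mul, ← mul_assoc, ← hαx, mul_inv_cancel_right]
  have e2 : a⁻¹ * α a = 1 := pp_inf H C Fα Dt h4 h6 Q B (mul_mem (inv_mem ha) ha')
    (by rw [e1]; exact mul_mem hc (inv_mem hc'))
  refine ⟨a, ha, c, hc, (inv_mul_eq_one.1 e2).symm, ?_, e⟩
  rw [e1] at e2
  exact (mul_inv_eq_one.1 e2).symm

/-- **`M` is normalised by `C`.** -/
theorem mpsi_conj {g : Y} (hg : g ∈ fixC α t) {m : Y}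
    (hm : m ∈ Subgroup.closure (MPsi cs h (XL X) α (Sx cs h χ t) β)) :
    g * m * g⁻¹ ∈ Subgroup.closure (MPsi cs h (XL X) α (Sx cs h χ t) β) := by
  have R := rs_Sx H C Fα Dt
  have hβr := B.mem.1
  -- by an element of `P`
  have hP : ∀ u ∈ PP0 cs h X χ α t, ∀ m ∈ Subgroup.closure (MPsi cs h (XL X) α (Sx cs h χ t) β),
      u * m * u⁻¹ ∈ Subgroup.closure (MPsi cs h (XL X) α (Sx cs h χ t) β) := by
    intro u hu m hm
    obtain ⟨a, ha, c, hc, hαa, hαc, rfl⟩ := pp_dec H C Fα Dt h4 h6 Q B hu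
    have h1 : Subgroup.closure (MPsi cs h (XL X) α (Sx cs h χ t) β) ≤ Subgroup.centralizer {c} := by
      rw [Subgroup.closure_le]
      rintro x ⟨hx, -⟩
      rw [SetLike.mem_coe, Subgroup.mem_centralizer_singleton_iff]
      exact comm_psi H C Fα Dt h4 h6 Q B hx hc
    have h2 := Subgroup.mem_centralizer_singleton_iff.1 (h1 hm)
    have e : a * c * m * (a * c)⁻¹ = a * m * a⁻¹ := by
      calc a * c * m * (a * c)⁻¹ = a * (c * m) * c⁻¹ * a⁻¹ := by group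
        _ = a * m * a⁻¹ := by rw [← h2]; group
    rw [e]
    have haM : a ∈ Subgroup.closure (MPsi cs h (XL X) α (Sx cs h χ t) β) :=
      Subgroup.subset_closure ⟨Or.inl ha, hαa⟩
    exact mul_mem (mul_mem haM hm) (inv_mem haM)
  obtain ⟨hg1, hg2⟩ := mem_fixC.1 hg
  obtain ⟨w, u, hu, hαu, k, hk, hkt, hαk, v2, hv2, hαv2, hkv, e⟩ :=
    form_fix H C Fα Dt.hG Dt.hsep Dt.hA Dt.ht Dt.hα Dt.hpos hg2 hg1
  have hK : ∀ m ∈ Subgroup.closure (MPsi cs h (XL X) α (Sx cs h χ t) β),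
      k * m * k⁻¹ ∈ Subgroup.closure (MPsi cs h (XL X) α (Sx cs h χ t) β) := by
    obtain ⟨v, hv, v', hv', hv1, hv1', hαv, hαv', h3, w0, hw0, hrep⟩ := Q.r1 β hβr B.fix
    have hwβ : rep cs h w β ∈ Sx cs h χ t :=
      ⟨hβr.act w, by rw [chi_act C Dt H.nsys hk hkt hβr]; exact B.mem.2⟩
    have h1 : k * v * k⁻¹ ∈ XL X (rep cs h w β) := by
      have h2 : k * v * k⁻¹ ∈ cj k (XL X β) := conj_mem_cj.2 hv
      rwa [H.conj_rp hk hβr] at h2
    have h2 : α (k * v * k⁻¹) = k * v * k⁻¹ := by rw [map_mul, map_mul, map_inv, hαk, hαv]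
    have h5 : k * v * k⁻¹ ∈ XL X (θ (rep cs h w β)) := by
      have := (Fα.map _ (hβr.act w) (k * v * k⁻¹)).2 h1
      rwa [h2] at this
    have h7 : θ (rep cs h w β) = rep cs h w β :=
      Q.inj _ _ ((Fα.root _).2 (hβr.act w)) (hβr.act w) (k * v * k⁻¹) (by
        rw [Ne, conj_eq_one_iff]; exact hv1) h5 h1
    have hcp : ∀ b, cpr cs h (rep cs h w b) (rep cs h w β) = cpr cs h b β := fun b => cpr_rep cs h w b hβr
    have hsx : ∀ b ∈ Sx cs h χ t, rep cs h w b ∈ Sx cs h χ t := fun b hb =>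
      ⟨hb.1.act w, by rw [chi_act C Dt H.nsys hk hkt hb.1]; exact hb.2⟩
    have hroots : ∀ (S : Set (I → ℤ)), (S = Pp cs h (Sx cs h χ t) β ∨ S = Pn cs h (Sx cs h χ t) β) → ∀ b ∈ S,
        IsRoot cs h b := by
      rintro S (rfl | rfl) b hb
      · exact hb.1.1
      · exact hb.1.1
    intro m hm
    have hle : Subgroup.closure (MPsi cs h (XL X) α (Sx cs h χ t) β) ≤
        (Subgroup.closure (MPsi cs h (XL X) α (Sx cs h χ t) β)).comap (MulAut.conj k).toMonoidHom := by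
      rw [Subgroup.closure_le]
      rintro x ⟨hx, hαx⟩
      show k * x * k⁻¹ ∈ Subgroup.closure (MPsi cs h (XL X) α (Sx cs h χ t) β)
      refine Subgroup.subset_closure ⟨?_, by rw [map_mul, map_mul, map_inv, hαk, hαx]⟩
      rcases B.only _ hwβ h7 with h8 | h8
      · rw [h8] at hcp
        rcases hx with hx | hx
        · left
          exact conj_SupL H hk (S' := Pp cs h (Sx cs h χ t) β) (fun b hb => hb.1.1)
            (fun b hb => ⟨hsx b hb.1, by rw [hcp]; exact hb.2⟩) hx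
        · right
          exact conj_SupL H hk (S' := Pn cs h (Sx cs h χ t) β) (fun b hb => hb.1.1)
            (fun b hb => ⟨hsx b hb.1, by rw [hcp]; exact hb.2⟩) hx
      · have hcp' : ∀ b, cpr cs h (rep cs h w b) β = - cpr cs h b β := by
          intro b
          have := hcp b
          rw [h8, cpr_neg_right cs h _ hβr] at this
          omega
        rcases hx with hx | hx
        · right
          exact conj_SupL H hk (S' := Pn cs h (Sx cs h χ t) β) (fun b hb => hb.1.1)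
            (fun b hb => ⟨hsx b hb.1, by rw [hcp']; have := hb.2; omega⟩) hx
        · left
          exact conj_SupL H hk (S' := Pp cs h (Sx cs h χ t) β) (fun b hb => hb.1.1)
            (fun b hb => ⟨hsx b hb.1, by rw [hcp']; have := hb.2; omega⟩) hx
    exact hle hm
  have e2 : g * m * g⁻¹ = u * (k * (v2 * m * v2⁻¹) * k⁻¹) * u⁻¹ := by rw [e]; group
  rw [e2]
  exact hP u ⟨hu, hαu⟩ _ (hK _ (hP v2 ⟨hv2, hαv2⟩ m hm))

/-- **M3 for `q = 2`, `θ β = β`.** -/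
theorem two_main [hpr : Fact p.Prime] [Finite ↥(fixC α t)] (hp2 : p = 2) {K C' : Subgroup Y} (hC' : C' ≤ fixC α t)
    (hC'n : ∀ c ∈ fixC α t, ∀ x ∈ C', c * x * c⁻¹ ∈ C') (hpC' : ∀ x ∈ fixC α t, (∃ j : ℕ, x ^ p ^ j = 1) → x ∈ C')
    (hcore : ∀ L ≤ C', (∀ c ∈ C', ∀ x ∈ L, c * x * c⁻¹ ∈ L) → IsPGroup p ↥L → L = ⊥)
    (hK : K ≤ C') (hKn : ∀ c ∈ C', ∀ x ∈ K, c * x * c⁻¹ ∈ K) {z : Y} (hzK : z ∈ K) (hzP : z ∈ PP0 cs h X χ α t)
    (hz1 : z ≠ 1) :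
    (∃ v ∈ XL X β, v ≠ 1 ∧ α v = v ∧ v ∈ K) ∨
      (∃ v ∈ XL X β, v ≠ 1 ∧ α v = v ∧ ∃ y ∈ K, y ≠ 1 ∧ (∃ r : ℕ, r.Prime ∧ r ≠ 2 ∧ y ^ r = 1) ∧ y * v = v * y) := by
  classical
  by_contra hcon
  push Not at hcon
  obtain ⟨hnB, hnC⟩ := hcon
  have R := rs_Sx H C Fα Dt
  have hβr := B.mem.1
  obtain ⟨v, hv, v', hv', hv1, hv1', hαv, hαv', h3, w0, hw0, hrep⟩ := Q.r1 β hβr B.fix
  set MM := Subgroup.closure (MPsi cs h (XL X) α (Sx cs h χ t) β) with hMM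
  have hβP : β ∈ Pp cs h (Sx cs h χ t) β := ⟨B.mem, by rw [cpr_self cs h hβr]; omega⟩
  -- `L`
  let L : Subgroup Y := C' ⊓ Subgroup.centralizer (MM : Set Y)
  have hLm : ∀ l, l ∈ L ↔ l ∈ C' ∧ ∀ m ∈ MM, m * l = l * m := fun l => by
    rw [Subgroup.mem_inf, Subgroup.mem_centralizer_iff]
    rfl
  have hLn : ∀ c ∈ C', ∀ l ∈ L, c * l * c⁻¹ ∈ L := by
    intro c hc l hl
    rw [hLm] at hl ⊢
    refine ⟨mul_mem (mul_mem hc hl.1) (inv_mem hc), fun m hm => ?_⟩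
    have h1 : c⁻¹ * m * c ∈ MM := by
      have := mpsi_conj H C Fα Dt h4 h6 Q B (inv_mem (hC' hc)) hm
      rwa [inv_inv] at this
    have h2 := hl.2 _ h1
    calc m * (c * l * c⁻¹) = c * (c⁻¹ * m * c * l) * c⁻¹ := by group
      _ = c * (l * (c⁻¹ * m * c)) * c⁻¹ := by rw [h2]
      _ = c * l * c⁻¹ * m := by group
  have hfC' : Finite ↥C' := Finite.of_injective (Subgroup.inclusion hC') (Subgroup.inclusion_injective _)
  -- `K ⊓ L = 1`
  have hKL : K ⊓ L = ⊥ := by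
    refine hcore _ (inf_le_left.trans hK) (fun c hc x hx => ?_) ?_
    · obtain ⟨h1, h2⟩ := Subgroup.mem_inf.1 hx
      exact Subgroup.mem_inf.2 ⟨hKn c hc x h1, hLn c hc x h2⟩
    · have hfin : Finite ↥(K ⊓ L) := Finite.of_injective (Subgroup.inclusion (inf_le_left.trans hK))
        (Subgroup.inclusion_injective _)
      refine isPGroup_of_prime fun y r hr hrp hy => ?_
      by_contra hy1
      obtain ⟨h1, h2⟩ := Subgroup.mem_inf.1 y.2
      refine hnC v hv hv1 hαv y h1 (fun h => hy1 (Subtype.ext h)) ⟨r, hr, by rw [← hp2]; exact hrp, ?_⟩ ?_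
      · rw [← Subgroup.coe_pow, hy, Subgroup.coe_one]
      · exact (((hLm _).1 h2).2 v (Subgroup.subset_closure ⟨Or.inl (RGD.le_Sup hβP hv), hαv⟩)).symm
  have hKL' : ∀ x, x ∈ K → x ∈ L → x = 1 := fun x h1 h2 => by
    have : x ∈ K ⊓ L := Subgroup.mem_inf.2 ⟨h1, h2⟩
    rwa [hKL, Subgroup.mem_bot] at this
  -- the decomposition
  obtain ⟨a, ha, c, hc, hαa, hαc, rfl⟩ := pp_dec H C Fα Dt h4 h6 Q B hzP
  have hac : a * c = c * a := comm_psi H C Fα Dt h4 h6 Q B (Or.inl ha) hc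
  have hz0 : ∃ a0 ∈ XL X β, ∃ c0 ∈ RGD.Sup (XL X) (Rp0 cs h (Sx cs h χ t) β), α a0 = a0 ∧ α c0 = c0 ∧
      a0 * c0 ∈ K ∧ a0 * c0 ≠ 1 := by
    have hne : ∀ b, IsRoot cs h b → ∃ v ∈ XL X b, v ≠ 1 := fun b hb =>
      ⟨xx b 1, ((C.coord b hb).mem _).2 ⟨1, rfl⟩, (C.coord b hb).ne_one one_ne_zero⟩
    rcases pp_elt h4 h6 Q R B hne (fun b hb v hv => (Fα.map b hb v).2 hv) ha hαa with h1 | ⟨h1, h2⟩
    · exact ⟨a, h1, c, hc, hαa, hαc, hzK, hz1⟩
    · refine ⟨a * a, h1, c * c, mul_mem hc hc, by rw [map_mul, hαa], by rw [map_mul, hαc], ?_, ?_⟩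
      · have e : a * a * (c * c) = a * c * (a * c) := by
          calc a * a * (c * c) = a * (a * c) * c := by group
            _ = a * (c * a) * c := by rw [hac]
            _ = a * c * (a * c) := by group
        rw [e]
        exact mul_mem hzK hzK
      · intro h5
        apply h2
        refine pp_inf H C Fα Dt h4 h6 Q B (mul_mem ha ha) ?_
        rw [mul_eq_one_iff_eq_inv.1 h5]
        exact inv_mem (mul_mem hc hc)
  obtain ⟨a0, ha0, c0, hc0, hαa0, hαc0, hK0, hne0⟩ := hz0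
  -- `c0 ∈ L`
  have hpow : ∀ x ∈ Up cs h X χ t, ∃ j : ℕ, x ^ p ^ j = 1 := by
    intro x hx
    obtain ⟨j, hj⟩ := isPGroup_Up H (χ := χ) (t := t) ⟨x, hx⟩
    exact ⟨j, congrArg (fun z : ↥(Up cs h X χ t) => (z : Y)) hj⟩
  have hc0U : c0 ∈ Up cs h X χ t := r0_le H C Fα Dt h4 h6 Q B hc0
  have hc0C : c0 ∈ C' := hpC' c0 (mem_fixC.2 ⟨hαc0, comm_Up C Dt.ht hc0U⟩) (hpow c0 hc0U)
  have hc0L : c0 ∈ L := by
    rw [hLm]
    refine ⟨hc0C, fun m hm => ?_⟩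
    have h1 : MM ≤ Subgroup.centralizer {c0} := by
      rw [hMM, Subgroup.closure_le]
      rintro x ⟨hx, -⟩
      rw [SetLike.mem_coe, Subgroup.mem_centralizer_singleton_iff]
      exact comm_psi H C Fα Dt h4 h6 Q B hx hc0
    exact Subgroup.mem_centralizer_singleton_iff.1 (h1 hm)
  by_cases ha1 : a0 = 1
  · rw [ha1, one_mul] at hK0 hne0
    exact hne0 (hKL' _ hK0 hc0L)
  by_cases hc1 : c0 = 1
  · rw [hc1, mul_one] at hK0
    exact hnB a0 ha0 ha1 hαa0 hK0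
  -- `c0` is central in `L`
  have hcen : ∀ l ∈ L, c0 * l = l * c0 := by
    intro l hl
    have hl' := (hLm l).1 hl
    have e1 : a0 * l = l * a0 := hl'.2 a0 (Subgroup.subset_closure ⟨Or.inl (RGD.le_Sup hβP ha0), hαa0⟩)
    have e2 : (a0 * c0) * (l * (a0 * c0)⁻¹ * l⁻¹) = c0 * (l * c0⁻¹ * l⁻¹) := by
      have e3 : a0 * c0 = c0 * a0 := comm_psi H C Fα Dt h4 h6 Q B (Or.inl (RGD.le_Sup hβP ha0)) hc0
      calc (a0 * c0) * (l * (a0 * c0)⁻¹ * l⁻¹) = c0 * a0 * (l * (a0 * c0)⁻¹ * l⁻¹) := by rw [← e3]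
        _ = c0 * (a0 * l) * (a0 * c0)⁻¹ * l⁻¹ := by group
        _ = c0 * (l * a0) * (a0 * c0)⁻¹ * l⁻¹ := by rw [e1]
        _ = c0 * (l * a0) * (c0 * a0)⁻¹ * l⁻¹ := by rw [e3]
        _ = c0 * (l * c0⁻¹ * l⁻¹) := by group
    have h5 : c0 * (l * c0⁻¹ * l⁻¹) = 1 := by
      refine hKL' _ ?_ (mul_mem hc0L (mul_mem (mul_mem hl (inv_mem hc0L)) (inv_mem hl)))
      rw [← e2]
      exact mul_mem hK0 (hKn l hl'.1 _ (inv_mem hK0))
    calc c0 * l = c0 * (l * c0⁻¹ * l⁻¹) * (l * c0) := by group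
      _ = l * c0 := by rw [h5, one_mul]
  -- the `p`-elements of `Z(L)`
  let Zp : Subgroup Y :=
    { carrier := {x | x ∈ L ∧ (∀ l ∈ L, x * l = l * x) ∧ ∃ j : ℕ, x ^ p ^ j = 1}
      one_mem' := ⟨one_mem _, fun l _ => by rw [one_mul, mul_one], 0, by simp⟩
      mul_mem' := by
        rintro x y ⟨hx, hxc, i, hi⟩ ⟨hy, hyc, j, hj⟩
        refine ⟨mul_mem hx hy, fun l hl => by rw [mul_assoc, hyc l hl, ← mul_assoc, hxc l hl, mul_assoc], i + j, ?_⟩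
        have hxy : Commute x y := hxc y hy
        rw [hxy.mul_pow, pow_add, pow_mul, hi, one_pow, one_mul, mul_comm (p ^ i), pow_mul, hj, one_pow]
      inv_mem' := by
        rintro x ⟨hx, hxc, i, hi⟩
        refine ⟨inv_mem hx, fun l hl => ?_, i, by rw [inv_pow, hi, inv_one]⟩
        have h1 := hxc l hl
        calc x⁻¹ * l = x⁻¹ * (l * x) * x⁻¹ := by group
          _ = x⁻¹ * (x * l) * x⁻¹ := by rw [h1]
          _ = l * x⁻¹ := by group }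
  have hZp : Zp = ⊥ := by
    refine hcore Zp (fun x hx => ((hLm x).1 hx.1).1) (fun c hc x hx => ?_) ?_
    · refine ⟨hLn c hc x hx.1, fun l hl => ?_, ?_⟩
      · have h1 : c⁻¹ * l * c ∈ L := by
          have := hLn c⁻¹ (inv_mem hc) l hl
          rwa [inv_inv] at this
        have h2 := hx.2.1 _ h1
        calc c * x * c⁻¹ * l = c * (x * (c⁻¹ * l * c)) * c⁻¹ := by group
          _ = c * (c⁻¹ * l * c * x) * c⁻¹ := by rw [h2]
          _ = l * (c * x * c⁻¹) := by group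
      · obtain ⟨j, hj⟩ := hx.2.2
        exact ⟨j, by rw [conj_pow, hj]; group⟩
    · rintro ⟨x, hx⟩
      obtain ⟨j, hj⟩ := hx.2.2
      exact ⟨j, Subtype.ext hj⟩
  have h9 : c0 ∈ Zp := ⟨hc0L, hcen, hpow c0 hc0U⟩
  rw [hZp, Subgroup.mem_bot] at h9
  exact hc1 h9

omit B in
/-- **M3 for `q = 2`, `θ β = β`**, final form. -/
theorem two_fix [hpr : Fact p.Prime] [Finite ↥(fixC α t)] (hp2 : p = 2) {K C' : Subgroup Y} (hC' : C' ≤ fixC α t)
    (hC'n : ∀ c ∈ fixC α t, ∀ x ∈ C', c * x * c⁻¹ ∈ C') (hpC' : ∀ x ∈ fixC α t, (∃ j : ℕ, x ^ p ^ j = 1) → x ∈ C')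
    (hcore : ∀ L ≤ C', (∀ c ∈ C', ∀ x ∈ L, c * x * c⁻¹ ∈ L) → IsPGroup p ↥L → L = ⊥)
    (hK : K ≤ C') (hKn : ∀ c ∈ C', ∀ x ∈ K, c * x * c⁻¹ ∈ K) (hKP : K ⊓ PP0 cs h X χ α t ≠ ⊥)
    (hβ : β ∈ SP cs h χ t) (hfix : θ β = β)
    (hKβ : ∀ y ∈ Subgroup.closure ({x | x ∈ RGD.Sup (XL X) (orb θ β) ∧ α x = x} ∪
        {x | x ∈ RGD.Sup (XL X) (orbN θ β) ∧ α x = x}), ∀ m : ℕ, m.Coprime p → y ^ m = 1 → y ∈ K) :
    (∃ b ∈ Sx cs h χ t, θ b = b ∧ ∃ v ∈ XL X b, v ≠ 1 ∧ α v = v ∧ v ∈ K) ∨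
      (∃ b ∈ Sx cs h χ t, θ b = b ∧ ∃ v ∈ XL X b, v ≠ 1 ∧ α v = v ∧
        ∃ y ∈ K, y ≠ 1 ∧ (∃ r : ℕ, r.Prime ∧ r ≠ 2 ∧ y ^ r = 1) ∧ y * v = v * y) := by
  have R := rs_Sx H C Fα Dt
  have hβr := hβ.1.1
  obtain ⟨v, hv, v', hv', hv1, hv1', hαv, hαv', h3, w0, hw0, hrep⟩ := Q.r1 β hβr hfix
  have hvO : v ∈ RGD.Sup (XL X) (orb θ β) := RGD.le_Sup (S := orb θ β) ⟨0, rfl⟩ hv
  have hvN : v' ∈ RGD.Sup (XL X) (orbN θ β) := RGD.le_Sup (S := orbN θ β) ⟨0, rfl⟩ hv'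
  have hρ : v * v' ∈ K := by
    refine hKβ _ (mul_mem (Subgroup.subset_closure (Or.inl ⟨hvO, hαv⟩)) (Subgroup.subset_closure (Or.inr ⟨hvN, hαv'⟩)))
      3 (by rw [hp2]; decide) h3
  have hρ1 : v * v' ≠ 1 := by
    intro e
    have h1 : v ∈ XL X (-β) := by
      rw [mul_eq_one_iff_eq_inv.1 e]
      exact inv_mem hv'
    have h2 := Q.inj _ _ hβr hβr.neg v hv1 hv h1
    refine hβr.not_pos_neg hβ.2 ?_
    rw [h2]
    exact neg_nonpos.2 hβ.2
  -- the fixed elements of root groups lie in `C'`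
  have hmem : ∀ g ∈ Sx cs h χ t, ∀ x ∈ XL X g, α x = x → x ∈ C' := by
    intro g hg x hx hαx
    refine hpC' x (mem_fixC.2 ⟨hαx, ?_⟩) ⟨1, by rw [hp2, pow_one, pow_two, Q.sq g hg.1 x hx]⟩
    rcases hg.1.pos_or_neg with h0 | h0
    · exact comm_Up C Dt.ht (RGD.le_Sup (S := SP cs h χ t) ⟨hg, h0⟩ hx)
    · exact comm_Un C Dt.ht (RGD.le_Sup (S := SN cs h χ t) ⟨hg, h0⟩ hx)
  by_cases hB : ∃ g ∈ Sx cs h χ t, θ g = g ∧ cpr cs h g β = -1
  · -- `[v, v_g] ∈ K`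
    left
    obtain ⟨g, hg, hgf, hgb⟩ := hB
    obtain ⟨x, hx, x', hx', hx1, hx1', hαx, hαx', -, -⟩ := Q.r1 g hg.1 hgf
    obtain ⟨z, hz, hz1, e⟩ := Q.comm1 β g hβr hg.1 (by rw [cpr_symm cs h h4 h6 hβr hg.1, hgb]) v hv x hx hv1 hx1
    have hroot : IsRoot cs h (β + g) := (add_root_iff h4 h6 hβr hg.1).2 (by rw [cpr_symm cs h h4 h6 hβr hg.1, hgb])
    have e2 : z = v * x * v⁻¹ * x⁻¹ := by rw [e]; group
    have c1 : v' * x = x * v' := Q.comm0 (-β) g hβr.neg hg.1 (by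
      rw [cpr_neg cs h _ hg.1, cpr_symm cs h h4 h6 hβr hg.1, hgb]; omega) v' hv' x hx
    have e3 : z = (v * v') * (x * (v * v')⁻¹ * x⁻¹) := by
      calc z = v * x * v⁻¹ * x⁻¹ := e2
        _ = v * (x * v') * v'⁻¹ * v⁻¹ * x⁻¹ := by group
        _ = v * (v' * x) * v'⁻¹ * v⁻¹ * x⁻¹ := by rw [c1]
        _ = (v * v') * (x * (v * v')⁻¹ * x⁻¹) := by group
    refine ⟨β + g, R.add _ hβ.1 _ hg hroot, by rw [map_add, hfix, hgf], z, hz, hz1, ?_, ?_⟩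
    · rw [e2, map_mul, map_mul, map_mul, map_inv, map_inv, hαv, hαx]
    · rw [e3]
      exact mul_mem hρ (hKn x (hmem g hg x hx hαx) _ (inv_mem hρ))
  by_cases hO : ∃ g ∈ Sx cs h χ t, θ g = g ∧ cpr cs h g β = 0
  · right
    obtain ⟨g, hg, hgf, hgb⟩ := hO
    obtain ⟨x, hx, x', hx', hx1, hx1', hαx, hαx', -, -⟩ := Q.r1 g hg.1 hgf
    have hbg : cpr cs h β g = 0 := by rw [cpr_symm cs h h4 h6 hβr hg.1, hgb]
    have c1 : v * x = x * v := Q.comm0 β g hβr hg.1 (by omega) v hv x hx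
    have c2 : v' * x = x * v' := Q.comm0 (-β) g hβr.neg hg.1 (by rw [cpr_neg cs h _ hg.1]; omega) v' hv' x hx
    refine ⟨g, hg, hgf, x, hx, hx1, hαx, v * v', hρ, hρ1, ⟨3, Nat.prime_three, by decide, h3⟩, ?_⟩
    calc v * v' * x = v * (v' * x) := by group
      _ = (v * x) * v' := by rw [c2]; group
      _ = x * (v * v') := by rw [c1]; group
  have B : Bt θ (Sx cs h χ t) β := by
    refine ⟨hβ.1, hfix, hβ.2, fun g hg hgf => ?_⟩
    rcases cpr_val h4 h6 hg.1 hβr with h1 | h1 | h1 | h1 | h1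
    · exact Or.inl h1
    · exact Or.inr h1
    · exact absurd ⟨g, hg, hgf, h1⟩ hO
    · exact absurd ⟨-g, R.neg g hg, by rw [map_neg, hgf], by rw [cpr_neg cs h _ hβr, h1]⟩ hB
    · exact absurd ⟨g, hg, hgf, h1⟩ hB
  obtain ⟨z, hz, hz1⟩ : ∃ z ∈ K ⊓ PP0 cs h X χ α t, z ≠ 1 := by
    by_contra hcon
    push Not at hcon
    exact hKP ((Subgroup.eq_bot_iff_forall _).2 hcon)
  obtain ⟨hzK, hzP⟩ := Subgroup.mem_inf.1 hz
  rcases two_main H C Fα Dt h4 h6 Q B hp2 hC' hC'n hpC' hcore hK hKn hzK hzP hz1 with h1 | h1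
  · exact Or.inl ⟨β, hβ.1, hfix, h1⟩
  · exact Or.inr ⟨β, hβ.1, hfix, h1⟩

end Main

end Cfsg.Agent.H534.MX
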