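import Cfsg.Agent.H534.MX.TwoC
import Cfsg.Agent.H520.MX.Fin

/-!
# S3509, mixed covers: the input M3 of `mix_of_out`, simply laced types, all `q` (helper534)

* `two_in` : the input `TwoIn` of `H520.MX.m3_out`;
* `hM3_all` : the input M3.
-/

set_option autoImplicit false
set_option linter.unusedSectionVars false

namespace Cfsg.Agent.H534.MX

open CoxeterSystem Cfsg Cfsg.Lie Cfsg.Lie.ChevalleyDatum
open Cfsg.Agent.ChevalleyStructure Cfsg.Agent.ChevalleyStructure.Elts Cfsg.Agent.ChevalleyStructure.CoxeterGeom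
  Cfsg.Agent.ChevalleyStructure.CoxeterGeomTypes Cfsg.Agent.ChevalleyStructure.NPerm
open Cfsg.Agent.Tits.Roots Cfsg.Agent.Tits.Core Cfsg.Agent.Nodes Cfsg.Agent.Nodes.Reps Cfsg.Agent.Nodes.BNOf
  Cfsg.Agent.Nodes.RGDChev
open Cfsg.Agent.BpExc Cfsg.Agent.BpExc.LangFr Cfsg.Agent.GpExc.Field
open Cfsg.Agent.H469.Exc Cfsg.Agent.H316.U6 Cfsg.Agent.H169.RG Cfsg.Agent.H520.MX

variable {D : ChevalleyDatum} {l : ℕ} {M : CoxeterMatrix (Fin l)} {hp : IsType D l M} {p q : ℕ} [hr : Fact p.Prime]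
  {K₀ : Type} [Group K₀] {m : MData hp p q K₀} {s : ↥(D.group (KK p))}

/-- **The input for `q = 2`, `θ b = b`.** -/
theorem two_in (h4 : ∀ i j, M i j ≠ 4) (h6 : ∀ i j, M i j ≠ 6) (hq : q = 2) (f : TorForm m s)
    (hs : (orderOf s).Coprime p) {K : Subgroup ↥(D.group (KK p))} (hK : K ≤ CI m s)
    (hKn : ∀ c ∈ CI m s, ∀ x ∈ K, c * x * c⁻¹ ∈ K) (hu : ∃ u ∈ K, u ≠ 1 ∧ u ^ p = 1) : TwoIn f K := by
  intro w b hb _ _ hcl hθ
  obtain ⟨u, hu, hu1, hup⟩ := hu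
  rcases two_out h4 h6 hq f hs hK hKn hu hu1 (j := 1) (by rw [pow_one]; exact hup) hb.1 hθ (hcl b hb) with
    ⟨b, hb, hb1, v, hv, hv1, hv2, h⟩ | ⟨b, hb, hb1, v, hv, hv1, hv2, h⟩
  · exact ⟨b, v, hb, hb1, hv, hv1, hv2, Or.inl h⟩
  · exact ⟨b, v, hb, hb1, hv, hv1, hv2, Or.inr h⟩

/-- **The input M3 of `mix_of_out`.** -/
theorem hM3_all (m : MData hp p q K₀) (h4 : ∀ i j, M i j ≠ 4) (h6 : ∀ i j, M i j ≠ 6) :
    ∀ s, (orderOf s).Coprime p → ∀ f : TorForm m s, ∀ K ≤ CI m s, (∀ c ∈ CI m s, ∀ x ∈ K, c * x * c⁻¹ ∈ K) →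
      (∃ u ∈ K, u ≠ 1 ∧ u ^ p = 1) → MixOut m f K (LR m) :=
  hM3_of m h4 h6 fun hq _ hs f _ hK hKn hu => two_in h4 h6 hq f hs hK hKn hu

end Cfsg.Agent.H534.MX
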